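import Mathlib

/-! Symmetry of the coefficients of a polynomial without real roots, all roots on one circle. -/

set_option autoImplicit false
open Polynomial
open scoped ComplexConjugate

namespace Groth.Agent.WeilNumLib

theorem comp_coeff {R : Type*} [CommRing R] (f : R[X]) (r : R) (n : ℕ) :
    (f.comp (C r * X)).coeff n = f.coeff n * r ^ n := by
  induction f using Polynomial.induction_on' with
  | add p q hp hq => simp [hp, hq, add_mul]
  | monomial m a =>
    rw [monomial_comp, mul_pow, ← map_pow, ← mul_assoc, ← map_mul, coeff_C_mul, coeff_X_pow, coeff_monomial]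
    split_ifs with h1 h2 h2 <;> simp_all

theorem reverse_lin {R : Type*} [CommRing R] [Nontrivial R] {q : R} (hq : q ≠ 0) (z : R) :
    ((X - C z).comp (C q * X)).reverse = C q - C z * X := by
  have hn : ((X - C z).comp (C q * X)).natDegree = 1 := by
    rw [sub_comp, X_comp, C_comp, natDegree_sub_C, natDegree_C_mul_X _ hq]
  ext n
  rw [coeff_reverse, comp_coeff, hn]
  match n with
  | 0 => simp [revAt_le, coeff_X, coeff_C]
  | 1 => simp [revAt_le]
  | n + 2 => simp [revAt_eq_self_of_lt, coeff_X, coeff_C]

theorem reverse_prod {R : Type*} [CommRing R] [IsDomain R] {q : R} (hq : q ≠ 0) (s : Multiset R) :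
    ((s.map fun z => X - C z).prod.comp (C q * X)).reverse =
      (s.map fun z => C q - C z * X).prod := by
  induction s using Multiset.induction with
  | empty => simp [reverse]
  | cons z s ih =>
    rw [Multiset.map_cons, Multiset.prod_cons, Multiset.map_cons, Multiset.prod_cons, mul_comp,
      reverse_mul_of_domain, reverse_lin hq, ih]

/-- If all complex roots of the monic integer polynomial `P` have squared absolute value `q > 0` and
none is real, then `P` has even degree `2d` and `a_{d-r} = q^r a_{d+r}`. -/
theorem coeff_symm (P : ℤ[X]) (hP : P.Monic) (q : ℕ) (hq : 0 < q)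
    (hnorm : ∀ z ∈ P.aroots ℂ, ‖z‖ ^ 2 = q) (hnr : ∀ z ∈ P.aroots ℂ, z.im ≠ 0) :
    Even P.natDegree ∧ ∀ r ≤ P.natDegree / 2,
      P.coeff (P.natDegree / 2 - r) = (q : ℤ) ^ r * P.coeff (P.natDegree / 2 + r) := by
  classical
  set Q := P.map (algebraMap ℤ ℂ) with hQ
  set s := P.aroots ℂ with hs
  have hQm : Q.Monic := hP.map _
  have hQd : Q.natDegree = P.natDegree := hP.natDegree_map _
  have hcard : s.card = P.natDegree := IsAlgClosed.card_aroots_eq_natDegree
  have hprod : (s.map fun z => X - C z).prod = Q :=
    prod_multiset_X_sub_C_of_monic_of_roots_card_eq hQm (by rw [hQd]; exact hcard)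
  have hQc : Q.map (conj : ℂ →+* ℂ) = Q := by
    rw [hQ, Polynomial.map_map]
    congr 1
    exact Subsingleton.elim _ _
  have hsc : s.map (fun z => conj z) = s := by
    have h := roots_map_of_injective_of_card_eq_natDegree (p := Q)
      (f := (conj : ℂ →+* ℂ)) (RingHom.injective _) (by rw [hQd]; exact hcard)
    rw [hQc] at h
    exact h
  have hzc : ∀ z ∈ s, z * conj z = (q : ℂ) := by
    intro z hz
    rw [Complex.mul_conj, Complex.normSq_eq_norm_sq, hnorm z hz]
    norm_num
  set sp := s.filter (fun z => 0 < z.im) with hsp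
  set sn := s.filter (fun z => ¬ 0 < z.im) with hsn
  have hneg : sn = sp.map (fun z => conj z) := by
    conv_lhs => rw [hsn, ← hsc, Multiset.filter_map]
    congr 1
    refine Multiset.filter_congr fun z hz => ?_
    have := hnr z hz
    simp only [Function.comp_apply, Complex.conj_im, Left.neg_pos_iff, not_lt]
    constructor <;> intro h <;> rcases lt_or_gt_of_ne this with h' | h' <;> linarith
  have hsplit : sp + sn = s := Multiset.filter_add_not _ s
  have hd2 : P.natDegree = 2 * sp.card := by
    rw [← hcard, ← hsplit, Multiset.card_add, hneg, Multiset.card_map, two_mul]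
  have hev : Even P.natDegree := ⟨sp.card, by omega⟩
  refine ⟨hev, fun r hr => ?_⟩
  have hd : P.natDegree / 2 = sp.card := by omega
  rw [hd] at hr ⊢
  set d := sp.card with hdd
  have hneg1 : (s.map fun z => -z).prod = (q : ℂ) ^ d := by
    have hpair : (sp.map fun z => z * conj z).prod = (q : ℂ) ^ d := by
      rw [Multiset.map_congr rfl (fun z hz => hzc z (Multiset.mem_of_mem_filter hz)),
        Multiset.map_const', Multiset.prod_replicate]
    rw [Multiset.prod_map_mul, Multiset.map_id'] at hpair
    rw [Multiset.prod_map_neg, hcard, hev.neg_one_pow, one_mul, ← hsplit, Multiset.prod_add, hneg,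
      hpair]
  have hq0 : (q : ℂ) ≠ 0 := by exact_mod_cast hq.ne'
  have hid : (Q.comp (C (q : ℂ) * X)).reverse = C ((q : ℂ) ^ d) * Q := by
    have h := reverse_prod hq0 s
    rw [hprod] at h
    rw [h, Multiset.map_congr rfl (g := fun z => C (-z) * (X - C (conj z))) (fun z hz => by
      rw [← hzc z hz, map_mul, map_neg]; ring), Multiset.prod_map_mul,
      ← hneg1]
    congr 1
    · rw [map_multiset_prod, Multiset.map_map]; rfl
    · conv_rhs => rw [← hprod, ← hsc, Multiset.map_map]
      rfl
  have h := congrArg (fun f => f.coeff (d + r)) hid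
  have hdeg : (Q.comp (C (q : ℂ) * X)).natDegree = 2 * d := by
    rw [natDegree_comp, natDegree_C_mul_X _ hq0, mul_one, hQd, hd2]
  simp only [coeff_reverse, hdeg, coeff_C_mul] at h
  rw [revAt_le (by omega), show 2 * d - (d + r) = d - r by omega, comp_coeff, hQ, coeff_map,
    coeff_map] at h
  have h2 : ((P.coeff (d - r) * (q : ℤ) ^ (d - r) : ℤ) : ℂ) =
      (((q : ℤ) ^ r * P.coeff (d + r) * (q : ℤ) ^ (d - r) : ℤ) : ℂ) := by
    push_cast
    have e : (q : ℂ) ^ d = (q : ℂ) ^ r * (q : ℂ) ^ (d - r) := by
      rw [← pow_add]; congr 1; omega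
    simp only [algebraMap_int_eq, eq_intCast] at h
    rw [h, e]; ring
  exact mul_right_cancel₀ (pow_ne_zero _ (by exact_mod_cast hq.ne')) (Int.cast_injective h2)

end Groth.Agent.WeilNumLib
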