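import Groth.Agent.WeilNumLib.Kernel

/-! Generators of the kernel, and the structure of the image. -/

set_option autoImplicit false
universe u
open Polynomial

namespace Groth.Agent.WeilNumLib

/-- A transcendental element. -/
theorem exists_transcendental : ∃ (L : Type u) (_ : Field L) (_ : CharZero L) (x : L), x ≠ 0 ∧
    ∀ f : ℤ[X], aeval x f = 0 → f = 0 := by
  let A := Polynomial (ULift.{u} ℚ)
  haveI : CharZero (ULift.{u} ℚ) := charZero_of_injective_ringHom (ULift.ringEquiv.symm : ℚ ≃+* ULift.{u} ℚ).injective (f := (ULift.ringEquiv.symm : ℚ ≃+* ULift.{u} ℚ).toRingHom)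
  haveI : CharZero (FractionRing A) := IsFractionRing.charZero A
  refine ⟨FractionRing A, inferInstance, inferInstance, algebraMap A _ X, ?_, fun f hf => ?_⟩
  · rw [Ne, FaithfulSMul.algebraMap_eq_zero_iff]; exact X_ne_zero
  · rw [aeval_algebraMap_apply, FaithfulSMul.algebraMap_eq_zero_iff] at hf
    have h : f.map (algebraMap ℤ (ULift.{u} ℚ)) = 0 := by
      rw [← hf, aeval_X_left_eq_map]
    exact Polynomial.map_injective _ (RingHom.injective_int _) (h.trans (Polynomial.map_zero _).symm)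

variable {q : ℕ}

theorem eval_relFV {L : Type u} [Field L] {x : L} (hx : x ≠ 0) {g : MvPolynomial (Fin 2) ℤ}
    (hg : g ∈ relFV q) : MvPolynomial.aeval ![x, (q : L) / x] g = 0 := by
  obtain ⟨a, rfl⟩ := Ideal.mem_span_singleton'.1 hg
  simp [mul_div_cancel₀ _ hx]

/-- `FV - q` generates the kernel of the evaluation at a transcendental point. -/
theorem mem_relFV_iff (hq : 0 < q) {L : Type u} [Field L] {x : L} (hx : x ≠ 0)
    (ht : ∀ f : ℤ[X], aeval x f = 0 → f = 0) (g : MvPolynomial (Fin 2) ℤ) :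
    g ∈ relFV q ↔ MvPolynomial.aeval ![x, (q : L) / x] g = 0 := by
  refine ⟨eval_relFV hx, fun h => ?_⟩
  obtain ⟨N, f, hf⟩ := exists_rep.{u} hq g
  have h0 : f = 0 := ht f (by rw [← hf.2.2 L x hx, h, zero_mul])
  have := hf.2.1
  rw [h0] at this
  simpa [lift', Polynomial.sum] using this

theorem relFV_isPrime (hq : 0 < q) : (relFV q).IsPrime := by
  obtain ⟨L, _, _, x, hx, ht⟩ := exists_transcendental.{0}
  have : relFV q = RingHom.ker (MvPolynomial.aeval ![x, (q : L) / x] :
      MvPolynomial (Fin 2) ℤ →ₐ[ℤ] L).toRingHom := by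
    ext g
    exact (mem_relFV_iff hq hx ht g).trans RingHom.mem_ker.symm
  rw [this]
  exact RingHom.ker_isPrime _

theorem lift'_eval {N : ℕ} {f : ℤ[X]} (hf : Good q N f) {L : Type u} [Field L] {x : L} (hx : x ≠ 0) :
    MvPolynomial.aeval ![x, (q : L) / x] (lift' q N f) * x ^ N = aeval x f := by
  rw [lift', aeval_eq_sum_range, Polynomial.sum, map_sum, Finset.sum_mul]
  rw [← Finset.sum_subset (supp_subset_range (Nat.lt_succ_self f.natDegree))
    (fun k _ hk => by rw [notMem_support_iff.1 hk, zero_smul])]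
  refine Finset.sum_congr rfl fun k _ => ?_
  rw [map_mul, map_mul, map_pow, map_pow, MvPolynomial.aeval_X, MvPolynomial.aeval_X,
    MvPolynomial.aeval_C, zsmul_eq_mul]
  simp only [Matrix.cons_val_zero, Matrix.cons_val_one, algebraMap_int_eq, eq_intCast]
  rcases le_or_gt k N with h | h
  · obtain ⟨n, rfl⟩ := Nat.exists_eq_add_of_le h
    obtain ⟨d, hd⟩ := hf k h
    rw [Nat.add_sub_cancel_left] at hd ⊢
    rw [hd, Nat.sub_eq_zero_of_le (Nat.le_add_right k n)]
    rcases Nat.eq_zero_or_pos q with rfl | hq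
    · rcases Nat.eq_zero_or_pos n with rfl | hn
      · simp
      · simp [zero_pow hn.ne']
    · rw [Int.mul_ediv_cancel_left _ (pow_ne_zero _ (by exact_mod_cast hq.ne' : (q : ℤ) ≠ 0))]
      push_cast
      rw [pow_add, div_pow]
      field_simp
  · obtain ⟨n, rfl⟩ := Nat.exists_eq_add_of_le h.le
    rw [Nat.sub_eq_zero_of_le (Nat.le_add_right N n), Nat.add_sub_cancel_left]
    simp [pow_add]
    ring

section Family

variable {D : ℕ} {ι : Type} [Fintype ι] {K : ι → Type u} [∀ i, Field (K i)]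
  [∀ i, CharZero (K i)] {π : ∀ i, K i} (hint : ∀ i, IsIntegral ℤ (π i))
  (hweil : ∀ i, ∀ z ∈ (minpoly ℤ (π i)).aroots ℂ, ‖z‖ ^ 2 = q)
  (hinj : ∀ i j, minpoly ℤ (π i) = minpoly ℤ (π j) → i = j)
  (hD : ∑ i, (minpoly ℤ (π i)).natDegree = 2 * D) (hq : 0 < q)
  {h : MvPolynomial (Fin 2) ℤ}
  (hh : MvPolynomial.X 0 ^ D * h - aeval (MvPolynomial.X 0 : MvPolynomial (Fin 2) ℤ) (prodMin π) ∈
    relFV q)

omit [∀ i, CharZero (K i)] in
include hh in
theorem h_eval {L : Type u} [Field L] {x : L} (hx : x ≠ 0) :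
    MvPolynomial.aeval ![x, (q : L) / x] h * x ^ D = aeval x (prodMin π) := by
  have := eval_relFV hx hh
  rw [map_sub, sub_eq_zero, map_mul, map_pow, MvPolynomial.aeval_X] at this
  rw [← aeval_algHom_apply, MvPolynomial.aeval_X] at this
  rw [← (show (![x, (q : L) / x] : Fin 2 → L) 0 = x from rfl)] at *
  rw [mul_comm]
  exact this

include hint hweil hq hh in
theorem evalFV_h : evalFV π q h = 0 := by
  funext i
  have hx := pi_ne_zero hint hweil hq i
  rw [evalFV_apply]
  have h1 : aeval (π i) (prodMin π) = 0 := by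
    rw [prodMin, map_prod]
    exact Finset.prod_eq_zero (Finset.mem_univ i) (minpoly.aeval _ _)
  have := h_eval (π := π) hh hx
  rw [h1, mul_eq_zero] at this
  exact this.resolve_right (pow_ne_zero _ hx)

include hint hweil hinj hD hq hh in
theorem ker_evalFV : RingHom.ker (evalFV π q) =
    Ideal.span {MvPolynomial.X 0 * MvPolynomial.X 1 - MvPolynomial.C (q : ℤ), h} := by
  apply le_antisymm
  · intro g hg
    obtain ⟨N₀, f₀, hf₀⟩ := exists_rep.{u} hq g
    have hf := rep_mono hf₀ (le_max_left N₀ D)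
    set N := max N₀ D
    set f := f₀ * X ^ (N - N₀)
    have hdvd : prodMin π ∣ f := prodMin_dvd hint hinj fun i => by
      rw [← hf.2.2 (K i) (π i) (pi_ne_zero hint hweil hq i), ← evalFV_apply,
        RingHom.mem_ker.1 hg, Pi.zero_apply, zero_mul]
    obtain ⟨w, hw⟩ := hdvd
    obtain ⟨h0, hi⟩ := prodMin_coeff hint hweil hD hq
    have hgood : Good q (N - D) w := good_of_mul hq h0 hi (le_max_right _ _) (hw ▸ hf.1)
    obtain ⟨L, _, _, x, hx, ht⟩ := exists_transcendental.{u}
    have hmem : g - lift' q (N - D) w * h ∈ relFV q := by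
      rw [mem_relFV_iff hq hx ht, map_sub, sub_eq_zero, map_mul]
      apply mul_right_cancel₀ (pow_ne_zero N hx)
      rw [hf.2.2 L x hx, hw, map_mul, ← h_eval (π := π) hh hx, ← lift'_eval hgood hx,
        show x ^ N = x ^ (N - D) * x ^ D by rw [← pow_add, Nat.sub_add_cancel (le_max_right _ _)]]
      ring
    rw [Ideal.mem_span_pair]
    obtain ⟨a, ha⟩ := Ideal.mem_span_singleton'.1 hmem
    exact ⟨a, lift' q (N - D) w, by rw [ha]; ring⟩
  · rw [Ideal.span_le]
    rintro _ (rfl | rfl)
    · funext i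
      rw [evalFV_apply]
      exact eval_relFV (pi_ne_zero hint hweil hq i) (Ideal.mem_span_singleton_self _)
    · exact evalFV_h hint hweil hq hh

include hint hh hq in
theorem h_not_mem : h ∉ relFV q := by
  intro hmem
  obtain ⟨L, _, _, x, hx, ht⟩ := exists_transcendental.{u}
  have := h_eval (π := π) hh hx
  rw [eval_relFV hx hmem, zero_mul] at this
  exact (monic_prodMin hint).ne_zero (ht _ this.symm)

include hint hh hq in
theorem isWeaklyRegular_pair : RingTheory.Sequence.IsWeaklyRegular (MvPolynomial (Fin 2) ℤ)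
    [MvPolynomial.X 0 * MvPolynomial.X 1 - MvPolynomial.C (q : ℤ), h] := by
  have hne : MvPolynomial.X 0 * MvPolynomial.X 1 - MvPolynomial.C (q : ℤ) ≠
      (0 : MvPolynomial (Fin 2) ℤ) := by
    intro h0
    have := congrArg (MvPolynomial.eval (0 : Fin 2 → ℤ)) h0
    simp at this
    omega
  rw [RingTheory.Sequence.isWeaklyRegular_cons_iff]
  refine ⟨fun a b hab => mul_left_cancel₀ hne hab, ?_⟩
  rw [RingTheory.Sequence.isWeaklyRegular_cons_iff]
  refine ⟨?_, RingTheory.Sequence.IsWeaklyRegular.nil _ _⟩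
  intro a b hab
  induction a using Submodule.Quotient.induction_on with | _ a =>
  induction b using Submodule.Quotient.induction_on with | _ b =>
  rw [← sub_eq_zero] at hab ⊢
  simp only [← Submodule.Quotient.mk_smul, ← Submodule.Quotient.mk_sub,
    Submodule.Quotient.mk_eq_zero, ← smul_sub] at hab ⊢
  rw [← Submodule.ideal_span_singleton_smul, smul_eq_mul, Ideal.mul_top] at hab ⊢
  exact ((relFV_isPrime hq).mem_or_mem hab).resolve_left (h_not_mem hint hq hh)

end Family

end Groth.Agent.WeilNumLib
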