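import Groth.Agent.WeilNumLib.KernelMain

/-! The minimal central order as an abelian group. -/

set_option autoImplicit false
universe u
open Polynomial

namespace Groth.Agent.WeilNumLib

variable {q D : ℕ} {ι : Type} [Fintype ι] {K : ι → Type u} [∀ i, Field (K i)]
  [∀ i, CharZero (K i)] {π : ∀ i, K i} (hint : ∀ i, IsIntegral ℤ (π i))
  (hweil : ∀ i, ∀ z ∈ (minpoly ℤ (π i)).aroots ℂ, ‖z‖ ^ 2 = q)
  (hinj : ∀ i j, minpoly ℤ (π i) = minpoly ℤ (π j) → i = j)
  (hD : ∑ i, (minpoly ℤ (π i)).natDegree = 2 * D) (hq : 0 < q)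

include hint hweil hD hq in
theorem exists_h : ∃ h : MvPolynomial (Fin 2) ℤ,
    MvPolynomial.X 0 ^ D * h - aeval (MvPolynomial.X 0 : MvPolynomial (Fin 2) ℤ) (prodMin π) ∈
      relFV q := by
  obtain ⟨-, hi⟩ := prodMin_coeff hint hweil hD hq
  obtain ⟨L, _, _, x, hx, ht⟩ := exists_transcendental.{u}
  refine ⟨lift' q D (prodMin π), (mem_relFV_iff hq hx ht _).2 ?_⟩
  rw [map_sub, map_mul, map_pow, MvPolynomial.aeval_X, ← aeval_algHom_apply, MvPolynomial.aeval_X]
  simp only [Matrix.cons_val_zero]
  rw [mul_comm, lift'_eval (fun k hk => hi k hk) hx, sub_self]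

include hint in
theorem prodMin_aeval (i : ι) : aeval (π i) (prodMin π) = 0 := by
  rw [prodMin, map_prod]
  exact Finset.prod_eq_zero (Finset.mem_univ i) (minpoly.aeval _ _)

include hint in
theorem prodMin_aeval_pi : aeval (fun i => π i) (prodMin π) = 0 := by
  funext i
  rw [aeval_pi_apply]
  exact prodMin_aeval hint i

include hint hweil hq in
theorem finite_range : Module.Finite ℤ (evalFV π q).range := by
  refine (Module.Finite.iff_fg (N := Subalgebra.toSubmodule (evalFV π q).range)).2 ?_
  rw [evalFV, MvPolynomial.aeval_range]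
  refine fg_adjoin_of_finite (Set.finite_range _) ?_
  rintro _ ⟨j, rfl⟩
  fin_cases j
  · exact ⟨prodMin π, monic_prodMin hint, by rw [← aeval_def]; exact prodMin_aeval_pi hint⟩
  · refine ⟨prodMin π, monic_prodMin hint, ?_⟩
    rw [← aeval_def]
    funext i
    show aeval (fun i => (q : K i) / π i) (prodMin π) i = 0
    rw [aeval_pi_apply]
    dsimp only
    rw [prodMin, map_prod]
    exact Finset.prod_eq_zero (Finset.mem_univ i)
      (aeval_div_eq_zero _ (minpoly.monic (hint i)) q hq (hweil i)
        (pi_ne_zero hint hweil hq i) (minpoly.aeval _ _))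

include hint hweil hinj hD hq in
theorem finrank_range : Module.finrank ℤ (evalFV π q).range = 2 * D := by
  let σ : ℤ[X] →ₐ[ℤ] ((i : ι) → K i) := aeval (fun i => π i)
  have hm := monic_prodMin (π := π) hint
  haveI := finite_range hint hweil hq
  -- the rank of the subring generated by `F`
  have hker : RingHom.ker σ = Ideal.span {prodMin π} := by
    ext f
    rw [RingHom.mem_ker, Ideal.mem_span_singleton]
    constructor
    · intro h
      refine prodMin_dvd hint hinj fun i => ?_
      have := congrFun h i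
      rwa [aeval_pi_apply] at this
    · rintro ⟨w, rfl⟩
      rw [map_mul, prodMin_aeval_pi hint, zero_mul]
  let e : (ℤ[X] ⧸ Ideal.span {prodMin π}) ≃ₐ[ℤ] σ.range :=
    (Ideal.quotientEquivAlgOfEq ℤ hker.symm).trans (Ideal.quotientKerEquivRange σ)
  have hS : Module.finrank ℤ σ.range = 2 * D := by
    rw [← e.toLinearEquiv.finrank_eq]
    rcases Nat.eq_zero_or_pos (2 * D) with h0 | h0
    · haveI : Subsingleton (ℤ[X] ⧸ Ideal.span {prodMin π}) := by
        rw [Ideal.Quotient.subsingleton_iff, Ideal.span_singleton_eq_top]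
        rw [← natDegree_prodMin hint hD] at h0
        rw [hm.natDegree_eq_zero.1 h0]
        exact isUnit_one
      rw [h0, Module.finrank_zero_of_subsingleton]
    · have hpb := (AdjoinRoot.powerBasis' hm).finrank
      rw [AdjoinRoot.powerBasis'_dim, natDegree_prodMin hint hD] at hpb
      exact hpb
  have hle : σ.range ≤ (evalFV π q).range := by
    rintro _ ⟨f, rfl⟩
    refine ⟨aeval (MvPolynomial.X 0) f, ?_⟩
    show evalFV π q _ = σ f
    rw [← aeval_algHom_apply]
    simp [σ, evalFV]
  haveI : Module.Finite ℤ σ.range :=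
    Module.Finite.of_injective (Subalgebra.inclusion hle).toLinearMap (Subalgebra.inclusion_injective hle)
  -- a multiple of the whole order lies in it
  set a := (prodMin π).coeff 0
  have ha : a ≠ 0 := by
    rcases (prodMin_coeff hint hweil hD hq).1 with e | e <;>
      simp [a, e, hq.ne', pow_eq_zero_iff']
  have hV : (a : (i : ι) → K i) * (fun i => (q : K i) / π i) ∈ σ.range := by
    obtain ⟨w, hw⟩ : X ∣ prodMin π - C a := X_dvd_iff.2 (by simp [a])
    refine ⟨- C (q : ℤ) * w, funext fun i => ?_⟩
    have h := congrArg (aeval (π i)) hw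
    rw [map_sub, prodMin_aeval hint i, aeval_C, map_mul, aeval_X, zero_sub] at h
    change aeval (fun j => π j) (-C (q : ℤ) * w) i = (a : K i) * ((q : K i) / π i)
    rw [aeval_pi_apply]
    dsimp only
    rw [map_mul, map_neg, aeval_C]
    have hx := pi_ne_zero hint hweil hq i
    simp only [algebraMap_int_eq, eq_intCast, Int.cast_natCast] at h ⊢
    field_simp
    linear_combination (q : K i) * h
  have hall : ∀ r ∈ (evalFV π q).range, ∃ n : ℕ, (a : (i : ι) → K i) ^ n * r ∈ σ.range := by
    rintro _ ⟨g, rfl⟩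
    induction g using MvPolynomial.induction_on with
    | C c => exact ⟨0, by rw [pow_zero, one_mul]; exact ⟨C c, by simp [σ, evalFV]⟩⟩
    | add g g' hg hg' =>
      obtain ⟨n, hn⟩ := hg; obtain ⟨n', hn'⟩ := hg'
      refine ⟨n + n', ?_⟩
      rw [AlgHom.toRingHom_eq_coe, RingHom.coe_coe] at *
      rw [map_add, mul_add]
      refine add_mem ?_ ?_
      · rw [show (a : (i : ι) → K i) ^ (n + n') = (a : (i : ι) → K i) ^ n' * (a : (i : ι) → K i) ^ n by
          rw [pow_add, mul_comm], mul_assoc]
        exact mul_mem (pow_mem (intCast_mem _ a) _) hn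
      · rw [pow_add, mul_assoc]
        exact mul_mem (pow_mem (intCast_mem _ a) _) hn'
    | mul_X g j hg =>
      obtain ⟨n, hn⟩ := hg
      refine ⟨n + 1, ?_⟩
      rw [AlgHom.toRingHom_eq_coe, RingHom.coe_coe] at *
      rw [map_mul, pow_succ, mul_assoc, mul_comm (evalFV π q g), ← mul_assoc (a : (i : ι) → K i),
        mul_comm ((a : (i : ι) → K i) * _) (evalFV π q g), ← mul_assoc]
      refine mul_mem hn ?_
      fin_cases j
      · exact mul_mem (intCast_mem _ a) ⟨X, by simp [σ, evalFV]⟩
      · simpa [evalFV] using hV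
  have hN : ∃ N : ℕ, ∀ r ∈ (evalFV π q).range, (a : (i : ι) → K i) ^ N * r ∈ σ.range := by
    classical
    obtain ⟨s, hs⟩ := (Module.Finite.iff_fg (N := Subalgebra.toSubmodule (evalFV π q).range)).1
      (finite_range hint hweil hq)
    have hmem : ∀ x ∈ s, x ∈ (evalFV π q).range := fun x hx => by
      rw [← Subalgebra.mem_toSubmodule, ← hs]; exact Submodule.subset_span hx
    choose! n hn using fun x hx => hall x (hmem x hx)
    refine ⟨s.sup n, fun r hr => ?_⟩
    rw [← Subalgebra.mem_toSubmodule, ← hs] at hr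
    induction hr using Submodule.span_induction with
    | mem x hx =>
      obtain ⟨k, hk⟩ := Nat.exists_eq_add_of_le (Finset.le_sup (f := n) hx)
      rw [hk, add_comm, pow_add, mul_assoc]
      exact mul_mem (pow_mem (intCast_mem _ a) _) (hn x hx)
    | zero => simp
    | add x y _ _ hx hy => rw [mul_add]; exact add_mem hx hy
    | smul c x _ hx => rw [mul_smul_comm]; exact zsmul_mem hx c
  obtain ⟨N, hN⟩ := hN
  let J : (evalFV π q).range →ₗ[ℤ] σ.range :=
    { toFun := fun r => ⟨(a : (i : ι) → K i) ^ N * (r : (i : ι) → K i), hN _ r.2⟩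
      map_add' := fun r r' => Subtype.ext (mul_add _ _ _)
      map_smul' := fun c r => Subtype.ext (mul_smul_comm c _ _) }
  have hJ : Function.Injective J := fun r r' hr => Subtype.ext <| funext fun i => by
    have := congrFun (congrArg Subtype.val hr) i
    simpa [J, ha, pow_eq_zero_iff'] using this
  refine le_antisymm ?_ ?_
  · exact hS ▸ LinearMap.finrank_le_finrank_of_injective hJ
  · rw [← hS]
    exact LinearMap.finrank_le_finrank_of_injective
      (f := (Subalgebra.inclusion hle).toLinearMap) (Subalgebra.inclusion_injective hle)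

end Groth.Agent.WeilNumLib
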