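import Mathlib

/-! The number of roots in the open unit disc of a split monic polynomial. -/

set_option autoImplicit false
open Polynomial

namespace Groth.Agent.WeilNumLib

theorem coeff_prod_X_sub_C_norm {L : Type*} [NormedField L] [IsUltrametricDist L] (s : Multiset L)
    (hs : ∀ z ∈ s, ‖z‖ ≤ 1) :
    (∀ j, ‖(s.map fun z => X - C z).prod.coeff j‖ ≤ 1) ∧
      (∀ j < (s.filter fun z => ‖z‖ < 1).card, ‖(s.map fun z => X - C z).prod.coeff j‖ < 1) ∧
      ‖(s.map fun z => X - C z).prod.coeff (s.filter fun z => ‖z‖ < 1).card‖ = 1 := by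
  classical
  induction s using Multiset.induction with
  | empty =>
    refine ⟨fun j => ?_, by simp, by simp⟩
    rw [Multiset.map_zero, Multiset.prod_zero, coeff_one]
    split_ifs <;> simp
  | cons z s ih =>
    obtain ⟨h1, h2, h3⟩ := ih fun w hw => hs w (Multiset.mem_cons_of_mem hw)
    have hz : ‖z‖ ≤ 1 := hs z (Multiset.mem_cons_self z s)
    set P := (s.map fun w => X - C w).prod with hP
    set m := (s.filter fun w => ‖w‖ < 1).card with hm
    have hcons : ((z ::ₘ s).map fun w => X - C w).prod = (X - C z) * P := by simp [hP]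
    rw [hcons]
    have hb : ∀ a b : L, ‖a - b‖ ≤ max ‖a‖ ‖b‖ := fun a b => by
      simpa [sub_eq_add_neg] using IsUltrametricDist.norm_add_le_max a (-b)
    have hzc : ∀ j, ‖z * P.coeff j‖ ≤ ‖z‖ := fun j => by
      rw [norm_mul]; exact mul_le_of_le_one_right (norm_nonneg _) (h1 j)
    have h0 : ((X - C z) * P).coeff 0 = -(z * P.coeff 0) := by
      simp [mul_coeff_zero]
    have hS : ∀ j, ((X - C z) * P).coeff (j + 1) = P.coeff j - z * P.coeff (j + 1) := fun j => by
      rw [sub_mul, coeff_sub, coeff_X_mul, coeff_C_mul]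
    refine ⟨fun j => ?_, ?_⟩
    · cases j with
      | zero => rw [h0, norm_neg]; exact (hzc 0).trans hz
      | succ j => rw [hS]; exact (hb _ _).trans (max_le (h1 j) ((hzc _).trans hz))
    by_cases hsmall : ‖z‖ < 1
    · rw [Multiset.filter_cons_of_pos s (p := fun w => ‖w‖ < 1) hsmall, Multiset.card_cons, ← hm]
      refine ⟨fun j hj => ?_, ?_⟩
      · cases j with
        | zero => rw [h0, norm_neg]; exact (hzc 0).trans_lt hsmall
        | succ j =>
          rw [hS]
          exact (hb _ _).trans_lt (max_lt (h2 j (by omega)) ((hzc _).trans_lt hsmall))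
      · rw [hS, sub_eq_add_neg, IsUltrametricDist.norm_add_eq_max_of_norm_ne_norm, h3, norm_neg]
        · exact max_eq_left ((hzc _).trans hsmall.le)
        · rw [h3, norm_neg]; exact ((hzc _).trans_lt hsmall).ne'
    · rw [Multiset.filter_cons_of_neg s (p := fun w => ‖w‖ < 1) hsmall, ← hm]
      have hz1 : ‖z‖ = 1 := le_antisymm hz (not_lt.1 hsmall)
      have hzn : ∀ j, ‖z * P.coeff j‖ = ‖P.coeff j‖ := fun j => by rw [norm_mul, hz1, one_mul]
      refine ⟨fun j hj => ?_, ?_⟩
      · cases j with
        | zero => rw [h0, norm_neg, hzn]; exact h2 0 hj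
        | succ j =>
          rw [hS]
          exact (hb _ _).trans_lt (max_lt (h2 j (by omega)) (by rw [hzn]; exact h2 _ hj))
      · clear_value m
        cases m with
        | zero => rw [h0, norm_neg, hzn]; exact h3
        | succ j =>
          have hlt : ‖P.coeff j‖ < 1 := h2 j (by omega)
          rw [hS, sub_eq_add_neg, IsUltrametricDist.norm_add_eq_max_of_norm_ne_norm, norm_neg, hzn,
            h3]
          · exact max_eq_right hlt.le
          · rw [norm_neg, hzn, h3]; exact hlt.ne

theorem norm_root_le_one {L : Type*} [NormedField L] [IsUltrametricDist L] (P : ℤ[X]) (hP : P.Monic)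
    {z : L} (hz : aeval z P = 0) : ‖z‖ ≤ 1 := by
  by_contra h
  push Not at h
  have h0 : z ^ P.natDegree = -∑ i ∈ Finset.range P.natDegree, (P.coeff i : L) * z ^ i := by
    rw [aeval_eq_sum_range, Finset.sum_range_succ, hP.coeff_natDegree] at hz
    simp only [zsmul_eq_mul, Int.cast_one, one_mul] at hz
    linear_combination hz
  by_cases hn : P.natDegree = 0
  · rw [hn] at h0; simp at h0
  have hle : ‖∑ i ∈ Finset.range P.natDegree, (P.coeff i : L) * z ^ i‖ ≤ ‖z‖ ^ (P.natDegree - 1) := by
    refine IsUltrametricDist.norm_sum_le_of_forall_le_of_nonneg (by positivity) fun i hi => ?_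
    rw [norm_mul, norm_pow]
    refine (mul_le_of_le_one_left (by positivity) (IsUltrametricDist.norm_intCast_le_one L _)).trans ?_
    exact pow_le_pow_right₀ h.le (by rw [Finset.mem_range] at hi; omega)
  have := pow_lt_pow_right₀ h (show P.natDegree - 1 < P.natDegree by omega)
  rw [← norm_pow z P.natDegree, h0, norm_neg] at this
  linarith

end Groth.Agent.WeilNumLib
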