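import Groth.Agent.WeilNumLib.ExtendedGor

/-! The enlarged order is not Gorenstein when the family is not ordinary. -/

set_option autoImplicit false
universe u
open Polynomial

namespace Groth.Agent.WeilNumLib

theorem isUnit_mk_of_coeff_zero {k : Type*} [Field k] {w : k[X]} (hw : w.coeff 0 ≠ 0) (n : ℕ) :
    IsUnit (Ideal.Quotient.mk (Ideal.span ({X ^ n} : Set k[X])) w) := by
  have h1 : IsUnit (Ideal.Quotient.mk (Ideal.span ({X ^ n} : Set k[X])) (C (w.coeff 0))) :=
    ((isUnit_iff_ne_zero.2 hw).map C).map _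
  have h2 : IsNilpotent (Ideal.Quotient.mk (Ideal.span ({X ^ n} : Set k[X])) (w - C (w.coeff 0))) := by
    obtain ⟨t, ht⟩ : X ∣ w - C (w.coeff 0) := X_dvd_iff.2 (by simp)
    refine ⟨n, ?_⟩
    rw [ht, ← map_pow, mul_pow, Ideal.Quotient.eq_zero_iff_mem]
    exact Ideal.mul_mem_right _ _ (Ideal.mem_span_singleton_self _)
  have := h2.isUnit_add_right_of_commute h1 (Commute.all _ _)
  rwa [← map_add, sub_add_cancel] at this

variable {p e D : ℕ} [Fact p.Prime] {s : ℤ} {ι : Type} [Fintype ι] {K : ι → Type u}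
  [∀ i, Field (K i)] [∀ i, CharZero (K i)] {π : ∀ i, K i} (hint : ∀ i, IsIntegral ℤ (π i))
  (hweil : ∀ i, ∀ z ∈ (minpoly ℤ (π i)).aroots ℂ, ‖z‖ ^ 2 = ((p ^ e : ℕ) : ℝ))
  (hinj : ∀ i j, minpoly ℤ (π i) = minpoly ℤ (π j) → i = j)
  (hD : ∑ i, (minpoly ℤ (π i)).natDegree = 2 * D)
  (he : 0 < e) (hs : s ^ 2 = ((p ^ e : ℕ) : ℤ))
  (hPs : ∀ i, (minpoly ℤ (π i)).eval s ≠ 0)
  {h : MvPolynomial (Fin 2) ℤ}
  (hh : MvPolynomial.X 0 ^ D * h - aeval (MvPolynomial.X 0 : MvPolynomial (Fin 2) ℤ) (prodMin π) ∈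
    relFV (p ^ e))

include hint hweil hD he hh in
theorem redF_swap_h : ∃ ε : (ZMod p)[X], IsUnit ε ∧ redF p (swapFV h) = ε * redF p h := by
  have hp : p.Prime := Fact.out
  set q := p ^ e with hqdef
  have hq : 0 < q := pow_pos hp.pos e
  have hm := monic_prodMin (π := π) hint
  have hsq := (coeff_zero_sq _ hm q hq (prodMin_norm hint hweil)).1
  have hrev := reverse_identity _ hm q hq (prodMin_norm hint hweil)
  have hdeg := natDegree_prodMin (π := π) hint hD
  obtain ⟨h0, -⟩ := prodMin_coeff hint hweil hD hq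
  obtain ⟨ε, hε1, hε⟩ : ∃ ε : ℤ, IsUnit ε ∧ (prodMin π).coeff 0 = ε * (q : ℤ) ^ D := by
    rcases h0 with e1 | e1
    · exact ⟨1, isUnit_one, by rw [e1, one_mul]⟩
    · exact ⟨-1, isUnit_one.neg, by rw [e1, neg_one_mul]⟩
  obtain ⟨L, _, _, x, hx, ht⟩ := exists_transcendental.{u}
  have hy : (q : L) / x ≠ 0 := div_ne_zero (Nat.cast_ne_zero.2 hq.ne') hx
  have hqy : (q : L) / ((q : L) / x) = x := by
    rw [div_div_eq_mul_div, mul_div_cancel_left₀ _ (Nat.cast_ne_zero.2 hq.ne')]
  have hswap : ∀ g, MvPolynomial.aeval ![x, (q : L) / x] (swapFV g) =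
      MvPolynomial.aeval ![(q : L) / x, (q : L) / ((q : L) / x)] g := by
    intro g
    have : (MvPolynomial.aeval ![x, (q : L) / x]).comp swapFV =
        MvPolynomial.aeval ![(q : L) / x, (q : L) / ((q : L) / x)] := by
      refine MvPolynomial.algHom_ext fun j => ?_
      fin_cases j <;> simp [swapFV, hqy]
    exact AlgHom.congr_fun this g
  have h1 := h_eval (π := π) hh hy
  have h2 := h_eval (π := π) hh hx
  -- the functional equation at `x`
  have h3 : aeval ((q : L) / x) (prodMin π) * x ^ (2 * D) =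
      ((prodMin π).coeff 0 : L) * aeval x (prodMin π) := by
    letI : Invertible x⁻¹ := invertibleOfNonzero (inv_ne_zero hx)
    have := eval₂_reverse_mul_pow (algebraMap ℤ L) x⁻¹ ((prodMin π).comp (C (q : ℤ) * X))
    rw [invOf_eq_inv, inv_inv, natDegree_comp,
      natDegree_C_mul_X _ (by exact_mod_cast hq.ne'), mul_one, hdeg, hrev, eval₂_mul, eval₂_C,
      eval₂_comp, eval₂_mul, eval₂_C, eval₂_X, ← aeval_def, ← aeval_def] at this
    simp only [algebraMap_int_eq, eq_intCast, Int.cast_natCast] at this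
    rw [div_eq_mul_inv, ← this, inv_pow, mul_assoc, inv_mul_cancel₀ (pow_ne_zero _ hx), mul_one]
  have h4 : swapFV h - MvPolynomial.C ε * h ∈ relFV q := by
    rw [mem_relFV_iff hq hx ht, map_sub, sub_eq_zero, map_mul, MvPolynomial.aeval_C, hswap]
    apply mul_right_cancel₀ (pow_ne_zero D hy)
    rw [h1]
    apply mul_right_cancel₀ (pow_ne_zero (2 * D) hx)
    rw [h3, ← h2, hε, algebraMap_int_eq, eq_intCast, div_pow]
    push_cast
    field_simp
    ring
  refine ⟨Polynomial.C (ε : ZMod p), (hε1.map (Int.castRingHom (ZMod p))).map C, ?_⟩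
  have := redF_relFV he h4
  rw [map_sub, sub_eq_zero, map_mul] at this
  rw [this]
  simp [redF]

include he hs in
theorem s_cast_zero : (s : ZMod p) = 0 := by
  rw [ZMod.intCast_zmod_eq_zero_iff_dvd]
  refine (Nat.prime_iff_prime_int.1 Fact.out).dvd_of_dvd_pow (n := 2) ?_
  rw [hs]
  push_cast
  exact dvd_pow_self _ he.ne'

include hint hweil hD he hs hh in
theorem socle_contra {Q : Type u} [CommRing Q] [LocCoh.IsGorensteinRing Q] [IsArtinianRing Q]
    (Θ : MvPolynomial (Fin 2) ℤ →+* Q) (hΘ : Function.Surjective Θ)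
    (hr : Θ (MvPolynomial.X 0 * MvPolynomial.X 1 - MvPolynomial.C ((p ^ e : ℕ) : ℤ)) = 0)
    (hk0 : Θ (h * (MvPolynomial.X 0 - MvPolynomial.C s)) = 0)
    (hk1 : Θ (h * (MvPolynomial.X 1 - MvPolynomial.C s)) = 0)
    (hp0 : (p : Q) = 0)
    (lift : ∀ (T : Type) [CommRing T] (f : MvPolynomial (Fin 2) ℤ →+* T),
      f (MvPolynomial.X 0 * MvPolynomial.X 1 - MvPolynomial.C ((p ^ e : ℕ) : ℤ)) = 0 →
      f (h * (MvPolynomial.X 0 - MvPolynomial.C s)) = 0 →
      f (h * (MvPolynomial.X 1 - MvPolynomial.C s)) = 0 → f (p : MvPolynomial (Fin 2) ℤ) = 0 →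
      ∃ F : Q →+* T, ∀ g, F (Θ g) = f g)
    (hdvd : (p : ℤ) ∣ (prodMin π).coeff D) : False := by
  classical
  have hp : p.Prime := Fact.out
  have hsp : (s : ZMod p) = 0 := s_cast_zero he hs
  obtain ⟨ε₀, hε₀⟩ := lift (ZMod p)
    ((Int.castRingHom (ZMod p)).comp (MvPolynomial.eval (0 : Fin 2 → ℤ)))
    (by simp [he.ne']) (by simp [hsp]) (by simp [hsp]) (by simp)
  have hε₀s : Function.Surjective ε₀ := fun c =>
    ⟨Θ (MvPolynomial.C (c.val : ℤ)), by simp [hε₀]⟩
  let m := RingHom.ker ε₀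
  haveI : m.IsMaximal := RingHom.ker_isMaximal_of_surjective _ hε₀s
  let L := Localization.AtPrime m
  haveI : IsArtinianRing L := inferInstance
  let Λ : MvPolynomial (Fin 2) ℤ →+* L := (algebraMap Q L).comp Θ
  set F : L := Λ (MvPolynomial.X 0) with hFdef
  set V : L := Λ (MvPolynomial.X 1) with hVdef
  have hΛC : ∀ c : ℤ, Λ (MvPolynomial.C c) = (c : L) := fun c =>
    eq_intCast (Λ.comp MvPolynomial.C) c
  have hp0' : (p : L) = 0 := by rw [← map_natCast (algebraMap Q L), hp0, map_zero]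
  have hs0 : (s : L) = 0 := by
    obtain ⟨c, hc⟩ := (ZMod.intCast_zmod_eq_zero_iff_dvd s p).1 hsp
    rw [hc]; push_cast; rw [hp0', zero_mul]
  have hFV : F * V = 0 := by
    have h1 : Λ (MvPolynomial.X 0 * MvPolynomial.X 1 - MvPolynomial.C ((p ^ e : ℕ) : ℤ)) = 0 := by
      show algebraMap Q L (Θ _) = 0
      rw [hr, map_zero]
    rw [map_sub, map_mul, hΛC, sub_eq_zero] at h1
    rw [h1]; push_cast; rw [hp0', zero_pow he.ne']
  have hH : ∀ j, Λ h * Λ (MvPolynomial.X j) = 0 := by
    intro j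
    have h1 : Λ (h * (MvPolynomial.X j - MvPolynomial.C s)) = 0 := by
      show algebraMap Q L (Θ _) = 0
      fin_cases j
      · exact (congrArg _ hk0).trans (map_zero _)
      · exact (congrArg _ hk1).trans (map_zero _)
    rwa [map_mul, map_sub, hΛC, hs0, sub_zero] at h1
  -- the decomposition `g ≡ g(F,0)` modulo `V`
  let aZ : MvPolynomial (Fin 2) ℤ →+* ℤ[X] := MvPolynomial.eval₂Hom (Int.castRingHom _) ![X, 0]
  let χ : ℤ[X] →+* L := eval₂RingHom (Int.castRingHom L) F
  have hdec : ∀ g, ∃ b, Λ g = χ (aZ g) + V * b := by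
    intro g
    induction g using MvPolynomial.induction_on with
    | C c => exact ⟨0, by rw [hΛC]; simp [χ, aZ]⟩
    | add g g' hg hg' =>
      obtain ⟨b, hb⟩ := hg
      obtain ⟨b', hb'⟩ := hg'
      exact ⟨b + b', by rw [map_add, hb, hb', map_add, map_add]; ring⟩
    | mul_X g j hg =>
      obtain ⟨b, hb⟩ := hg
      fin_cases j
      · exact ⟨b * F, by rw [map_mul, hb, map_mul, map_mul]; simp [χ, aZ, ← hFdef]; ring⟩
      · exact ⟨χ (aZ g) + V * b, by rw [map_mul, hb, map_mul, map_mul]; simp [χ, aZ, ← hVdef]; ring⟩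
  have haZ : (aZ h).map (Int.castRingHom (ZMod p)) = redF p h := by
    have : (mapRingHom (Int.castRingHom (ZMod p))).comp aZ = redF p := by
      refine MvPolynomial.ringHom_ext (fun c => ?_) (fun j => ?_)
      · simp [aZ, redF]
      · fin_cases j <;> simp [aZ, redF]
    exact RingHom.congr_fun this h
  have hah := redF_h (π := π) he hh
  set a := redF p h with hadef
  have ha0 : a ≠ 0 := fun h0 => by
    rw [h0, mul_zero] at hah
    exact ((monic_prodMin hint).map (Int.castRingHom (ZMod p))).ne_zero hah.symm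
  have hac : a.coeff 0 = 0 := by
    rw [hadef, redF_coeff_zero, ← cast_coeff_D he hh]
    exact (ZMod.intCast_zmod_eq_zero_iff_dvd _ p).2 hdvd
  obtain ⟨b, hab, hb0⟩ := Polynomial.exists_eq_pow_rootMultiplicity_mul_and_not_dvd a ha0 0
  rw [map_zero, sub_zero] at hab hb0
  set j := a.rootMultiplicity 0
  have hb0' : b.coeff 0 ≠ 0 := fun h0 => hb0 (X_dvd_iff.2 h0)
  have hj : 1 ≤ j := (rootMultiplicity_pos ha0).2 (by rw [IsRoot.def, ← coeff_zero_eq_eval_zero, hac])
  obtain ⟨B, hB⟩ := map_surjective (Int.castRingHom (ZMod p)) (ZMod.ringHom_surjective _) b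
  have hχp : ∀ f : ℤ[X], f.map (Int.castRingHom (ZMod p)) = 0 → χ f = 0 := by
    intro f hf
    obtain ⟨c, rfl⟩ := (C_dvd_iff_dvd_coeff (p : ℤ) f).2 fun i =>
      (ZMod.intCast_zmod_eq_zero_iff_dvd _ p).1 (by simpa using congrArg (fun g => g.coeff i) hf)
    rw [map_mul]
    simp [χ, hp0']
  have hχh : χ (aZ h) = F ^ j * χ B := by
    have := hχp (aZ h - X ^ j * B) (by
      rw [Polynomial.map_sub, Polynomial.map_mul, Polynomial.map_pow, map_X, haZ, hB, ← hab, sub_self])
    rw [map_sub, sub_eq_zero] at this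
    rw [this, map_mul, map_pow]
    simp [χ]
  -- units of `L`
  have hunit : ∀ g, (MvPolynomial.eval (0 : Fin 2 → ℤ) g : ZMod p) ≠ 0 → IsUnit (Λ g) := by
    intro g hg
    refine IsLocalization.map_units L (⟨Θ g, fun hm => hg ?_⟩ : m.primeCompl)
    rw [← RingHom.mem_ker.1 hm, hε₀]; rfl
  have hBu : IsUnit (χ B) := by
    have h1 : χ B = Λ (aeval (MvPolynomial.X 0 : MvPolynomial (Fin 2) ℤ) B) := by
      rw [aeval_def, hom_eval₂]
      show eval₂ (Int.castRingHom L) F B = _
      congr 1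
      exact RingHom.ext_int _ _
    rw [h1]
    refine hunit _ ?_
    have h2 : MvPolynomial.eval (0 : Fin 2 → ℤ)
        (aeval (MvPolynomial.X 0 : MvPolynomial (Fin 2) ℤ) B) = B.coeff 0 := by
      rw [aeval_def, hom_eval₂, coeff_zero_eq_eval_zero]
      show _ = eval₂ (RingHom.id ℤ) 0 B
      congr 1
      all_goals simp
    rw [h2, ← eq_intCast (Int.castRingHom (ZMod p)), ← coeff_map, hB]
    exact hb0'
  have hVF : V * F ^ j = 0 := by
    obtain ⟨i, hi⟩ := Nat.exists_eq_add_of_le hj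
    rw [hi, pow_add, pow_one, ← mul_assoc, mul_comm V F, hFV, zero_mul]
  have hFj : F ^ (j + 1) = 0 := by
    obtain ⟨w, hw⟩ := hdec h
    have h1 := hH 0
    rw [← hFdef, hw, hχh] at h1
    refine (hBu.mul_left_eq_zero).1 ?_
    linear_combination h1 - w * hFV
  -- the two socle elements
  have hsocle : ∀ (z : L), z * F = 0 → z * V = 0 →
      ∀ r ∈ IsLocalRing.maximalIdeal L, r * z = 0 := by
    intro z hzF hzV r hr'
    rw [← Localization.AtPrime.map_eq_maximalIdeal] at hr'
    induction hr' using Submodule.span_induction with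
    | mem y hy =>
      obtain ⟨x, hx, rfl⟩ := hy
      obtain ⟨g, rfl⟩ := hΘ x
      have h00 : ∀ g : MvPolynomial (Fin 2) ℤ,
          Λ g * z = (MvPolynomial.eval (0 : Fin 2 → ℤ) g : L) * z := by
        intro g
        induction g using MvPolynomial.induction_on with
        | C c => rw [hΛC]; simp
        | add g g' hg hg' => rw [map_add, map_add, add_mul, hg, hg', Int.cast_add, add_mul]
        | mul_X g i hg =>
          rw [map_mul, map_mul, MvPolynomial.eval_X, Pi.zero_apply, mul_zero, Int.cast_zero, zero_mul,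
            mul_assoc, mul_comm _ z]
          fin_cases i
          · exact (congrArg _ hzF).trans (mul_zero _)
          · exact (congrArg _ hzV).trans (mul_zero _)
      show Λ g * z = 0
      rw [h00]
      have : (MvPolynomial.eval (0 : Fin 2 → ℤ) g : ZMod p) = 0 := by
        rw [← RingHom.mem_ker.1 hx, hε₀]; rfl
      obtain ⟨c, hc⟩ := (ZMod.intCast_zmod_eq_zero_iff_dvd _ p).1 this
      rw [hc, Int.cast_mul, Int.cast_natCast, hp0', zero_mul, zero_mul]
    | zero => exact zero_mul z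
    | add y y' _ _ hy hy' => rw [add_mul, hy, hy', add_zero]
    | smul c y _ hy => rw [smul_eq_mul, mul_assoc, hy, mul_zero]
  -- the test maps
  let T := (ZMod p)[X] ⧸ Ideal.span ({X ^ (j + 1)} : Set (ZMod p)[X])
  let mkT : (ZMod p)[X] →+* T := Ideal.Quotient.mk _
  have test : ∀ f : MvPolynomial (Fin 2) ℤ →+* (ZMod p)[X],
      f (MvPolynomial.X 0) * f (MvPolynomial.X 1) = 0 →
      X ^ (j + 1) ∣ f h * f (MvPolynomial.X 0) → X ^ (j + 1) ∣ f h * f (MvPolynomial.X 1) →
      (∀ g, (f g).coeff 0 = (MvPolynomial.eval (0 : Fin 2 → ℤ) g : ZMod p)) →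
      ∃ G : L →+* T, ∀ g, G (Λ g) = mkT (f g) := by
    intro f hf0 hf1 hf2 hfc
    have hfC : ∀ c : ℤ, f (MvPolynomial.C c) = (c : (ZMod p)[X]) := fun c =>
      eq_intCast (f.comp MvPolynomial.C) c
    have hfs : f (MvPolynomial.C s) = 0 := by rw [hfC, ← map_intCast (C : ZMod p →+* (ZMod p)[X]), hsp, map_zero]
    have hfp : f (MvPolynomial.C (p : ℤ)) = 0 := by
      rw [hfC, Int.cast_natCast, ← map_natCast (C : ZMod p →+* (ZMod p)[X]), ZMod.natCast_self, map_zero]
    have hz : ∀ x : (ZMod p)[X], X ^ (j + 1) ∣ x → mkT x = 0 := fun x hx =>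
      Ideal.Quotient.eq_zero_iff_mem.2 (Ideal.mem_span_singleton.2 hx)
    obtain ⟨G₀, hG₀⟩ := lift T (mkT.comp f)
      (by
        rw [RingHom.comp_apply, map_sub f, map_mul f, hf0,
          show (((p ^ e : ℕ) : ℤ)) = (p : ℤ) ^ e by push_cast; rfl, map_pow, map_pow, hfp,
          zero_pow he.ne', sub_zero, map_zero])
      (by rw [RingHom.comp_apply, map_mul f, map_sub f, hfs, sub_zero]; exact hz _ hf1)
      (by rw [RingHom.comp_apply, map_mul f, map_sub f, hfs, sub_zero]; exact hz _ hf2)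
      (by
        rw [RingHom.comp_apply, map_natCast f, ← map_natCast (C : ZMod p →+* (ZMod p)[X]), ZMod.natCast_self, map_zero,
          map_zero])
    have hu : ∀ y : m.primeCompl, IsUnit (G₀ y) := by
      rintro ⟨y, hy⟩
      obtain ⟨g, rfl⟩ := hΘ y
      show IsUnit (G₀ (Θ g))
      rw [hG₀]
      refine isUnit_mk_of_coeff_zero ?_ _
      rw [hfc]
      intro h0
      apply hy
      show ε₀ (Θ g) = 0
      rw [hε₀]
      exact h0
    exact ⟨IsLocalization.lift hu, fun g => (IsLocalization.lift_eq hu _).trans (hG₀ g)⟩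
  have hjne : ∀ c : (ZMod p)[X], c.coeff 0 ≠ 0 → mkT (X ^ j * c) ≠ 0 := by
    intro c hc h0
    rw [Ideal.Quotient.eq_zero_iff_mem, Ideal.mem_span_singleton, pow_succ,
      mul_dvd_mul_iff_left (pow_ne_zero _ X_ne_zero), X_dvd_iff] at h0
    exact hc h0
  have hdvdX : X ^ (j + 1) ∣ a * X := ⟨b, by rw [hab]; ring⟩
  obtain ⟨G₁, hG₁⟩ := test (redF p) (by simp [redF])
    (by rw [← hadef, show redF p (MvPolynomial.X 0) = X by simp [redF]]; exact hdvdX) (by simp [redF])
    (redF_coeff_zero p)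
  obtain ⟨ε, hεu, hε⟩ := redF_swap_h hint hweil hD he hh
  obtain ⟨G₂, hG₂⟩ := test ((redF p).comp swapFV.toRingHom) (by simp [redF, swapFV])
    (by simp [redF, swapFV])
    (by
      have : X ^ (j + 1) ∣ redF p (swapFV h) * X := by
        rw [hε, mul_assoc]; exact dvd_mul_of_dvd_right hdvdX _
      rw [RingHom.comp_apply, RingHom.comp_apply,
        show redF p (swapFV.toRingHom (MvPolynomial.X 1)) = X by simp [redF, swapFV]]
      exact this)
    (fun g => by
      rw [RingHom.comp_apply, redF_coeff_zero]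
      congr 1
      have : (MvPolynomial.eval (0 : Fin 2 → ℤ)).comp swapFV.toRingHom =
          MvPolynomial.eval (0 : Fin 2 → ℤ) := by
        refine MvPolynomial.ringHom_ext (fun c => ?_) (fun i => ?_)
        · simp [swapFV]
        · fin_cases i <;> simp [swapFV]
      exact RingHom.congr_fun this g)
  have hG : LocCoh.IsGorensteinLocalRing L :=
    LocCoh.IsGorensteinRing.isGorensteinLocalRing_localization m
  obtain ⟨t, ht0, htm, htx⟩ := GorLib.simpleSocle_of_gorenstein hG
  obtain ⟨c, hc⟩ := htx (Λ h) (hsocle _ (hH 0) (hH 1))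
  obtain ⟨d, hd⟩ := htx (F ^ j) (hsocle _ (by rw [← pow_succ]; exact hFj) (by rw [mul_comm]; exact hVF))
  have hFne : F ^ j ≠ 0 := fun h0 => by
    have := congrArg G₁ h0
    rw [map_zero, ← map_pow, hG₁] at this
    exact hjne 1 (by simp) (by simpa [redF] using this)
  have hdu : IsUnit d := by
    by_contra hdn
    exact hFne (by rw [hd]; exact htm d hdn)
  obtain ⟨u, rfl⟩ := hdu
  have hHF : Λ h = c * (↑u⁻¹ : L) * F ^ j := by
    rw [hd, hc, mul_assoc, ← mul_assoc (↑u⁻¹ : L), Units.inv_mul, one_mul]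
  have := congrArg G₂ hHF
  rw [map_mul, ← map_pow, hG₂, hG₂] at this
  have hz : mkT (((redF p).comp swapFV.toRingHom) (MvPolynomial.X 0 ^ j)) = 0 := by
    simp [redF, swapFV, zero_pow (show j ≠ 0 by omega)]
  rw [hz, mul_zero, RingHom.comp_apply] at this
  change mkT (redF p (swapFV h)) = 0 at this
  rw [hε, ← hadef, hab, map_mul] at this
  exact hjne b hb0' ((hεu.map mkT).mul_right_eq_zero.1 this)

include hint hweil hinj hD he hs hPs hh in
theorem not_gorenstein_ext_of_dvd (hdvd : (p : ℤ) ∣ (prodMin π).coeff D) :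
    ¬ LocCoh.IsGorensteinRing (evalExt π (p ^ e) s).range := by
  intro hG
  classical
  have hp : p.Prime := Fact.out
  have hq : 0 < p ^ e := pow_pos hp.pos e
  let φ := evalExt π (p ^ e) s
  let θ : MvPolynomial (Fin 2) ℤ →+* φ.range := φ.rangeRestrict.toRingHom
  have hθ : Function.Surjective θ := φ.rangeRestrict_surjective
  have hθk : RingHom.ker θ = RingHom.ker φ := by
    ext g; exact ⟨fun h => congrArg Subtype.val h, fun h => Subtype.ext h⟩
  have hkerφ : RingHom.ker φ = _ := ker_evalExt hint hweil hinj hD hq hs hPs hh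
  have hpreg : IsSMulRegular φ.range (p : φ.range) := by
    intro a b hab
    have h1 := congrArg (fun z : φ.range => (z : ((i : ι) → K i) × ℚ)) hab
    simp only [smul_eq_mul, MulMemClass.coe_mul, Subring.coe_natCast, map_natCast] at h1
    apply Subtype.ext
    refine Prod.ext (funext fun i => ?_) ?_
    · have := congrFun (congrArg Prod.fst h1) i
      simpa [hp.ne_zero] using this
    · have := congrArg Prod.snd h1
      simpa [hp.ne_zero] using this
  haveI : Module.Finite ℤ φ.range := by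
    refine (Module.Finite.iff_fg (N := Subalgebra.toSubmodule φ.range)).2 ?_
    show (Subalgebra.toSubmodule (evalExt π (p ^ e) s).range).FG
    rw [evalExt, MvPolynomial.aeval_range]
    refine fg_adjoin_of_finite (Set.finite_range _) ?_
    rintro _ ⟨i, rfl⟩
    refine ⟨prodMin π * (X - C s), (monic_prodMin hint).mul (monic_X_sub_C s), ?_⟩
    rw [← aeval_def]
    refine Prod.ext ?_ ?_
    · rw [← AlgHom.fst_apply (R := ℤ), ← aeval_algHom_apply, map_mul]
      have h0 : aeval (AlgHom.fst ℤ _ ℚ (![(⟨fun i => π i, (s : ℚ)⟩ : ((i : ι) → K i) × ℚ),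
          ⟨fun i => ((p ^ e : ℕ) : K i) / π i, (s : ℚ)⟩] i)) (prodMin π) = 0 := by
        fin_cases i
        · exact prodMin_aeval_pi hint
        · funext i
          show aeval (fun i => ((p ^ e : ℕ) : K i) / π i) (prodMin π) i = 0
          rw [aeval_pi_apply]
          dsimp only
          rw [prodMin, map_prod]
          exact Finset.prod_eq_zero (Finset.mem_univ i)
            (aeval_div_eq_zero _ (minpoly.monic (hint i)) _ hq (hweil i)
              (pi_ne_zero hint hweil hq i) (minpoly.aeval _ _))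
      rw [h0, zero_mul]
      rfl
    · rw [← AlgHom.snd_apply (R := ℤ), ← aeval_algHom_apply, map_mul]
      have h0 : aeval (AlgHom.snd ℤ ((i : ι) → K i) ℚ
          (![(⟨fun i => π i, (s : ℚ)⟩ : ((i : ι) → K i) × ℚ),
          ⟨fun i => ((p ^ e : ℕ) : K i) / π i, (s : ℚ)⟩] i)) (X - C s) = 0 := by
        fin_cases i <;> simp
      rw [h0, mul_zero]
      rfl
  haveI := hG
  haveI := GorLib.gorensteinRing_quot φ.range (p : φ.range) hpreg
  set I := Ideal.span ({(p : φ.range)} : Set φ.range) with hI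
  have hp0 : (p : φ.range ⧸ I) = 0 := by
    rw [← map_natCast (Ideal.Quotient.mk I), Ideal.Quotient.eq_zero_iff_mem]
    exact Ideal.mem_span_singleton_self _
  haveI : Finite (φ.range ⧸ I) := by
    haveI : Module.Finite ℤ (φ.range ⧸ I) :=
      Module.Finite.of_surjective (Ideal.Quotient.mk I).toIntAlgHom.toLinearMap
        Ideal.Quotient.mk_surjective
    haveI : AddGroup.FG (φ.range ⧸ I) :=
      AddGroup.fg_iff_addMonoid_fg.2 (Module.Finite.iff_addGroup_fg.1 inferInstance |>
        AddGroup.fg_iff_addMonoid_fg.1)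
    refine AddCommGroup.finite_of_fg_torsion _ fun x => ?_
    rw [isOfFinAddOrder_iff_nsmul_eq_zero]
    exact ⟨p, hp.pos, by rw [nsmul_eq_mul, hp0, zero_mul]⟩
  haveI : IsArtinianRing (φ.range ⧸ I) := inferInstance
  refine socle_contra hint hweil hD he hs hh (Q := φ.range ⧸ I) ((Ideal.Quotient.mk I).comp θ)
    (Ideal.Quotient.mk_surjective.comp hθ) ?_ ?_ ?_ hp0 ?_ hdvd
  all_goals try
    rw [RingHom.comp_apply, show θ _ = 0 by
      rw [← RingHom.mem_ker, hθk, hkerφ]; exact Ideal.subset_span (by simp), map_zero]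
  intro T _ f h1 h2 h3 h4
  have hle : RingHom.ker θ ≤ RingHom.ker f := by
    rw [hθk, hkerφ, Ideal.span_le]
    rintro _ (rfl | rfl | rfl) <;> assumption
  let F₀ : φ.range →+* T := θ.liftOfSurjective hθ ⟨f, hle⟩
  have hF₀ : ∀ g, F₀ (θ g) = f g := θ.liftOfRightInverse_comp_apply _ _ _
  refine ⟨Ideal.Quotient.lift I F₀ fun a ha => ?_, fun g => ?_⟩
  · obtain ⟨b, rfl⟩ := Ideal.mem_span_singleton'.1 ha
    rw [map_mul, ← map_natCast θ p, hF₀, h4, mul_zero]
  · exact (Ideal.Quotient.lift_mk _ _ _).trans (hF₀ g)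

end Groth.Agent.WeilNumLib
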