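import Groth.Agent.WeilNumLib.Order
import Groth.Agent.GorLib.Ring
import Groth.Agent.GorLib.Artinian

/-! The minimal central order enlarged by one rational Weil number. -/

set_option autoImplicit false
universe u
open Polynomial

namespace Groth.Agent.WeilNumLib

/-- Localisation does not see a kernel killed by an element outside the prime. -/
theorem gorenstein_iff_of_surjective {R S : Type u} [CommRing R] [CommRing S] (f : R →+* S)
    (hf : Function.Surjective f) (Q : Ideal S) [Q.IsPrime] {g : R} (hg : f g ∉ Q)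
    (hk : ∀ x, f x = 0 → g * x = 0) :
    LocCoh.IsGorensteinLocalRing (Localization.AtPrime (Q.comap f)) ↔
      LocCoh.IsGorensteinLocalRing (Localization.AtPrime Q) := by
  let F := Localization.localRingHom (Q.comap f) Q f rfl
  have hF : Function.Bijective F := by
    constructor
    · rw [injective_iff_map_eq_zero]
      intro z hz
      obtain ⟨x, ⟨t, ht⟩, rfl⟩ := IsLocalization.exists_mk'_eq (Q.comap f).primeCompl z
      rw [Localization.localRingHom_mk', IsLocalization.mk'_eq_zero_iff] at hz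
      obtain ⟨⟨w, hw⟩, hwx⟩ := hz
      obtain ⟨v, rfl⟩ := hf w
      rw [IsLocalization.mk'_eq_zero_iff]
      refine ⟨⟨g * v, fun hmem => ?_⟩, ?_⟩
      · rcases (Ideal.IsPrime.comap (hK := ‹Q.IsPrime›) f).mem_or_mem hmem with h | h
        · exact hg h
        · exact hw h
      · show g * v * x = 0
        rw [mul_assoc]
        exact hk _ (by rw [map_mul]; exact hwx)
    · intro z
      obtain ⟨y, ⟨w, hw⟩, rfl⟩ := IsLocalization.exists_mk'_eq Q.primeCompl z
      obtain ⟨x, rfl⟩ := hf y
      obtain ⟨v, rfl⟩ := hf w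
      exact ⟨IsLocalization.mk' _ x (⟨v, hw⟩ : (Q.comap f).primeCompl),
        Localization.localRingHom_mk' _ _ _ rfl _ _⟩
  exact GorLib.gorenstein_iff_ringEquiv (RingEquiv.ofBijective F hF)

/-- A quotient of a regular polynomial ring by two suitable elements is Gorenstein. -/
theorem gor_quot_pair {A : Type u} [CommRing A] [LocCoh.IsGorensteinRing A] {r h : A}
    (hr : IsSMulRegular A r)
    (hh : IsSMulRegular (A ⧸ Ideal.span ({r} : Set A)) (Ideal.Quotient.mk (Ideal.span ({r} : Set A)) h)) :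
    LocCoh.IsGorensteinRing (A ⧸ (Ideal.span ({r} : Set A) ⊔ Ideal.span ({h} : Set A))) := by
  haveI := Groth.Agent.GorLib.gorensteinRing_quot A r hr
  have e1 : Ideal.span {Ideal.Quotient.mk (Ideal.span ({r} : Set A)) h} =
      (Ideal.span ({h} : Set A)).map (Ideal.Quotient.mk (Ideal.span ({r} : Set A))) := by
    rw [Ideal.map_span, Set.image_singleton]
  exact Groth.Agent.GorLib.gorensteinRing_of_ringEquiv
    ((Ideal.quotEquivOfEq e1).trans (DoubleQuot.quotQuotEquivQuotSup _ _))
    (Groth.Agent.GorLib.gorensteinRing_quot _ _ hh)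

/-- Swapping `F` and `V`. -/
noncomputable def swapFV : MvPolynomial (Fin 2) ℤ →ₐ[ℤ] MvPolynomial (Fin 2) ℤ :=
  MvPolynomial.aeval ![MvPolynomial.X 1, MvPolynomial.X 0]

variable {p q D : ℕ} {s : ℤ} {ι : Type} [Fintype ι] {K : ι → Type u} [∀ i, Field (K i)]
  [∀ i, CharZero (K i)] {π : ∀ i, K i} (hint : ∀ i, IsIntegral ℤ (π i))
  (hweil : ∀ i, ∀ z ∈ (minpoly ℤ (π i)).aroots ℂ, ‖z‖ ^ 2 = q)
  (hinj : ∀ i j, minpoly ℤ (π i) = minpoly ℤ (π j) → i = j)
  (hD : ∑ i, (minpoly ℤ (π i)).natDegree = 2 * D) (hq : 0 < q) (hs : s ^ 2 = (q : ℤ))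
  (hPs : ∀ i, (minpoly ℤ (π i)).eval s ≠ 0)
  {h : MvPolynomial (Fin 2) ℤ}
  (hh : MvPolynomial.X 0 ^ D * h - aeval (MvPolynomial.X 0 : MvPolynomial (Fin 2) ℤ) (prodMin π) ∈
    relFV q)

/-- The enlarged evaluation. -/
noncomputable def evalExt (π : ∀ i, K i) (q : ℕ) (s : ℤ) :
    MvPolynomial (Fin 2) ℤ →ₐ[ℤ] (((i : ι) → K i) × ℚ) :=
  MvPolynomial.aeval ![(⟨fun i => π i, (s : ℚ)⟩ : ((i : ι) → K i) × ℚ),
    ⟨fun i => (q : K i) / π i, (s : ℚ)⟩]

theorem evalExt_apply (g : MvPolynomial (Fin 2) ℤ) :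
    evalExt π q s g = (evalFV π q g, ((MvPolynomial.eval ![s, s] g : ℤ) : ℚ)) := by
  induction g using MvPolynomial.induction_on with
  | C c => ext <;> simp [evalExt, evalFV]
  | add g g' hg hg' => simp [map_add, hg, hg']
  | mul_X g j hg => rw [map_mul, hg]; fin_cases j <;> simp [evalExt, evalFV]

include hs in
theorem eval_relFV_s {g : MvPolynomial (Fin 2) ℤ} (hg : g ∈ relFV q) :
    MvPolynomial.eval ![s, s] g = 0 := by
  obtain ⟨a, rfl⟩ := Ideal.mem_span_singleton'.1 hg
  simp [← sq, hs]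

theorem sub_const_mem (s : ℤ) (g : MvPolynomial (Fin 2) ℤ) :
    g - MvPolynomial.C (MvPolynomial.eval ![s, s] g) ∈ Ideal.span
      {MvPolynomial.X 0 - MvPolynomial.C s, MvPolynomial.X 1 - MvPolynomial.C s} := by
  induction g using MvPolynomial.induction_on with
  | C c => simp
  | add g g' hg hg' =>
    rw [map_add, map_add, add_sub_add_comm]
    exact add_mem hg hg'
  | mul_X g j hg =>
    rw [map_mul, MvPolynomial.eval_X, map_mul,
      show g * MvPolynomial.X j - MvPolynomial.C (MvPolynomial.eval ![s, s] g) *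
        MvPolynomial.C ((![s, s] : Fin 2 → ℤ) j) =
        (g - MvPolynomial.C (MvPolynomial.eval ![s, s] g)) * MvPolynomial.X j +
          MvPolynomial.C (MvPolynomial.eval ![s, s] g) *
            (MvPolynomial.X j - MvPolynomial.C ((![s, s] : Fin 2 → ℤ) j)) by ring]
    refine add_mem (Ideal.mul_mem_right _ _ hg) (Ideal.mul_mem_left _ _ (Ideal.subset_span ?_))
    fin_cases j <;> simp

include hint hweil hinj hD hq hs hPs hh in
theorem ker_evalExt : RingHom.ker (evalExt π q s) =
    Ideal.span {MvPolynomial.X 0 * MvPolynomial.X 1 - MvPolynomial.C (q : ℤ),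
      h * (MvPolynomial.X 0 - MvPolynomial.C s), h * (MvPolynomial.X 1 - MvPolynomial.C s)} := by
  have hker := ker_evalFV hint hweil hinj hD hq hh
  have hhs : MvPolynomial.eval ![s, s] h ≠ 0 := by
    intro h0
    have h1 := eval_relFV_s hs hh
    rw [map_sub, map_mul, h0, mul_zero, zero_sub, neg_eq_zero] at h1
    have h2 : MvPolynomial.eval ![s, s] (aeval (MvPolynomial.X 0 : MvPolynomial (Fin 2) ℤ) (prodMin π)) =
        (prodMin π).eval s := by
      rw [← MvPolynomial.coe_aeval_eq_eval, RingHom.coe_coe, ← aeval_algHom_apply]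
      simp [Polynomial.coe_aeval_eq_eval]
    rw [h2, prodMin, eval_prod, Finset.prod_eq_zero_iff] at h1
    obtain ⟨i, -, hi⟩ := h1
    exact hPs i hi
  apply le_antisymm
  · intro g hg
    rw [RingHom.mem_ker, evalExt_apply] at hg
    have h1 : evalFV π q g = 0 := congrArg Prod.fst hg
    have h2 : MvPolynomial.eval ![s, s] g = 0 := Int.cast_injective (α := ℚ) <| by
      rw [Int.cast_zero]; exact congrArg Prod.snd hg
    rw [← RingHom.mem_ker, hker, Ideal.mem_span_pair] at h1
    obtain ⟨a, b, hab⟩ := h1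
    have hb : MvPolynomial.eval ![s, s] b = 0 := by
      rw [← hab, map_add, map_mul, eval_relFV_s hs (g := MvPolynomial.X 0 * MvPolynomial.X 1 -
        MvPolynomial.C (q : ℤ)) (Ideal.mem_span_singleton_self _), mul_zero, zero_add, map_mul,
        mul_eq_zero] at h2
      exact h2.resolve_right hhs
    have h3 := sub_const_mem s b
    rw [hb, map_zero, sub_zero, Ideal.mem_span_pair] at h3
    obtain ⟨c, d, hcd⟩ := h3
    rw [← hab, ← hcd, show ∀ x y u v : MvPolynomial (Fin 2) ℤ, a * x + (c * y + d * u) * v =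
      a * x + (c * (v * y) + d * (v * u)) from fun x y u v => by ring]
    refine add_mem (Ideal.mul_mem_left _ _ (Ideal.subset_span (by simp))) (add_mem ?_ ?_)
    · exact Ideal.mul_mem_left _ _ (Ideal.subset_span (by simp))
    · exact Ideal.mul_mem_left _ _ (Ideal.subset_span (by simp))
  · rw [Ideal.span_le]
    have h0 := evalFV_h hint hweil hq hh
    rintro _ (rfl | rfl | rfl) <;> rw [SetLike.mem_coe, RingHom.mem_ker, evalExt_apply] <;>
      refine Prod.ext ?_ ?_
    · exact RingHom.mem_ker.1 (hker ▸ Ideal.subset_span (Set.mem_insert _ _))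
    · simp [← sq, hs]
    · simp [h0]
    · simp
    · simp [h0]
    · simp

end Groth.Agent.WeilNumLib
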