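import Groth.Agent.WeilNumLib.Extended

/-! When the enlarged order is Gorenstein. -/

set_option autoImplicit false
universe u
open Polynomial

namespace Groth.Agent.WeilNumLib

variable {p e D : ℕ} [Fact p.Prime] {s : ℤ} {ι : Type} [Fintype ι] {K : ι → Type u}
  [∀ i, Field (K i)] [∀ i, CharZero (K i)] {π : ∀ i, K i} (hint : ∀ i, IsIntegral ℤ (π i))
  (hweil : ∀ i, ∀ z ∈ (minpoly ℤ (π i)).aroots ℂ, ‖z‖ ^ 2 = ((p ^ e : ℕ) : ℝ))
  (hinj : ∀ i j, minpoly ℤ (π i) = minpoly ℤ (π j) → i = j)
  (hD : ∑ i, (minpoly ℤ (π i)).natDegree = 2 * D)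
  (he : 0 < e) (hs : s ^ 2 = ((p ^ e : ℕ) : ℤ))
  (hPs : ∀ i, (minpoly ℤ (π i)).eval s ≠ 0)
  {h : MvPolynomial (Fin 2) ℤ}
  (hh : MvPolynomial.X 0 ^ D * h - aeval (MvPolynomial.X 0 : MvPolynomial (Fin 2) ℤ) (prodMin π) ∈
    relFV (p ^ e))

/-- Reduction along `V = 0` modulo `p`. -/
noncomputable def redF (p : ℕ) : MvPolynomial (Fin 2) ℤ →+* (ZMod p)[X] :=
  MvPolynomial.eval₂Hom (Int.castRingHom _) ![X, 0]

theorem redF_coeff_zero (p : ℕ) (g : MvPolynomial (Fin 2) ℤ) :
    (redF p g).coeff 0 = ((MvPolynomial.eval (0 : Fin 2 → ℤ) g : ℤ) : ZMod p) := by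
  have : (constantCoeff (R := ZMod p)).comp (redF p) =
      (Int.castRingHom (ZMod p)).comp (MvPolynomial.eval (0 : Fin 2 → ℤ)) := by
    refine MvPolynomial.ringHom_ext (fun c => ?_) (fun j => ?_)
    · simp [redF]
    · fin_cases j <;> simp [redF]
  exact RingHom.congr_fun this g

include he in
theorem redF_relFV {g : MvPolynomial (Fin 2) ℤ} (hg : g ∈ relFV (p ^ e)) : redF p g = 0 := by
  obtain ⟨a, rfl⟩ := Ideal.mem_span_singleton'.1 hg
  simp [redF, he.ne']

omit [∀ i, CharZero (K i)] in
include he hh in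
theorem redF_h : X ^ D * redF p h = (prodMin π).map (Int.castRingHom (ZMod p)) := by
  have h1 := redF_relFV he hh
  rw [map_sub, sub_eq_zero, map_mul, map_pow] at h1
  have h2 : ∀ f : ℤ[X], redF p (aeval (MvPolynomial.X 0 : MvPolynomial (Fin 2) ℤ) f) =
      f.map (Int.castRingHom (ZMod p)) := by
    intro f
    induction f using Polynomial.induction_on with
    | C c => simp [redF]
    | add f g hf hg => simp [hf, hg]
    | monomial n c _ =>
      simp [redF]
      exact map_intCast (MvPolynomial.eval₂Hom (Int.castRingHom (ZMod p)[X]) ![X, 0]) c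
  rw [h2] at h1
  rw [← h1]
  simp [redF]

omit [∀ i, CharZero (K i)] in
include he hh in
theorem cast_coeff_D : ((prodMin π).coeff D : ZMod p) =
    ((MvPolynomial.eval (0 : Fin 2 → ℤ) h : ℤ) : ZMod p) := by
  rw [← redF_coeff_zero, ← eq_intCast (Int.castRingHom (ZMod p)), ← coeff_map,
    ← redF_h he hh, mul_comm, coeff_mul_X_pow', if_pos le_rfl, Nat.sub_self]

include hint hweil hinj hD he hs hPs hh in
theorem gorenstein_ext_of_not_dvd (hord : ¬ (p : ℤ) ∣ (prodMin π).coeff D) :
    LocCoh.IsGorensteinRing (evalExt π (p ^ e) s).range := by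
  have hp : p.Prime := Fact.out
  have hq : 0 < p ^ e := pow_pos hp.pos e
  set q := p ^ e with hqdef
  let φ := evalExt π q s
  let θ : MvPolynomial (Fin 2) ℤ →+* φ.range := φ.rangeRestrict.toRingHom
  have hθ : Function.Surjective θ := φ.rangeRestrict_surjective
  have hθk : RingHom.ker θ = RingHom.ker φ := by
    ext g; exact ⟨fun h => congrArg Subtype.val h, fun h => Subtype.ext h⟩
  have hkerφ : RingHom.ker φ = _ := ker_evalExt hint hweil hinj hD hq hs hPs hh
  haveI : IsNoetherianRing φ.range := isNoetherianRing_of_surjective _ _ θ hθ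
  let U := ULift.{u} ℤ
  haveI : IsDomain U := MulEquiv.isDomain ℤ (ULift.ringEquiv : U ≃+* ℤ).toMulEquiv
  haveI : IsPrincipalIdealRing U :=
    IsPrincipalIdealRing.of_surjective ((ULift.ringEquiv : U ≃+* ℤ).symm : ℤ →+* U)
      (ULift.ringEquiv : U ≃+* ℤ).symm.surjective
  refine { isGorensteinLocalRing_localization := fun P hP => ?_ }
  by_cases hhP : θ h ∈ P
  swap
  · -- away from `h` the ring is `ℤ`
    let ev₀ : MvPolynomial (Fin 2) ℤ →+* U :=
      ((ULift.ringEquiv : U ≃+* ℤ).symm : ℤ →+* U).comp (MvPolynomial.eval ![s, s])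
    have hle : RingHom.ker θ ≤ RingHom.ker ev₀ := by
      rw [hθk]
      intro g hg
      rw [RingHom.mem_ker, evalExt_apply] at hg
      have : MvPolynomial.eval ![s, s] g = 0 := Int.cast_injective (α := ℚ) <| by
        rw [Int.cast_zero]; exact congrArg Prod.snd hg
      simp [ev₀, this]
    let ev : φ.range →+* U := θ.liftOfSurjective hθ ⟨ev₀, hle⟩
    have hevθ : ∀ g, ev (θ g) = ev₀ g := θ.liftOfRightInverse_comp_apply _ _ _
    have hev : Function.Surjective ev := fun c => ⟨θ (MvPolynomial.C (ULift.ringEquiv c)), by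
      rw [hevθ]
      show (ULift.ringEquiv : U ≃+* ℤ).symm (MvPolynomial.eval _ (MvPolynomial.C _)) = c
      rw [MvPolynomial.eval_C, RingEquiv.symm_apply_apply]⟩
    have hkill : ∀ x, ev x = 0 → θ h * x = 0 := by
      intro x hx
      obtain ⟨g, rfl⟩ := hθ x
      rw [hevθ] at hx
      have hg : MvPolynomial.eval ![s, s] g = 0 := by
        simpa [ev₀] using congrArg (ULift.ringEquiv : U ≃+* ℤ) hx
      rw [← map_mul]
      apply Subtype.ext
      change φ (h * g) = 0
      rw [evalExt_apply, map_mul, map_mul, evalFV_h hint hweil hq hh, hg]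
      simp
    have hker : RingHom.ker ev ≤ P := fun x hx =>
      (hP.mem_or_mem (hkill x hx ▸ P.zero_mem)).resolve_left hhP
    haveI := Ideal.map_isPrime_of_surjective hev hker
    have hcomap : (P.map ev).comap ev = P := by
      rw [Ideal.comap_map_of_surjective' ev hev, sup_eq_left]
      exact hker
    haveI := Groth.Agent.GorLib.gorensteinRing_of_regular U
    have hnot : ev (θ h) ∉ P.map ev := fun hm => hhP (hcomap ▸ (Ideal.mem_comap.2 hm))
    have h2 := (gorenstein_iff_of_surjective ev hev (P.map ev) hnot hkill).2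
      (LocCoh.IsGorensteinRing.isGorensteinLocalRing_localization _)
    have key : ∀ (J : Ideal φ.range) [J.IsPrime], J = P →
        LocCoh.IsGorensteinLocalRing (Localization.AtPrime J) →
        LocCoh.IsGorensteinLocalRing (Localization.AtPrime P) := by
      rintro J _ rfl h; exact h
    exact key _ hcomap h2
  -- near `h` the ring is a complete intersection
  let A := MvPolynomial (Fin 2) U
  let E : A ≃+* MvPolynomial (Fin 2) ℤ := MvPolynomial.mapEquiv (Fin 2) ULift.ringEquiv
  haveI := Groth.Agent.GorLib.gorensteinRing_of_regular A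
  set r : MvPolynomial (Fin 2) ℤ := MvPolynomial.X 0 * MvPolynomial.X 1 - MvPolynomial.C (q : ℤ)
  set k0 := h * (MvPolynomial.X 0 - MvPolynomial.C s) with hk0
  set k1 := h * (MvPolynomial.X 1 - MvPolynomial.C s) with hk1
  have key : ∀ (g : MvPolynomial (Fin 2) ℤ) (j : Fin 2), θ g ∉ P →
      g * k0 ∈ Ideal.span {r, h * (MvPolynomial.X j - MvPolynomial.C s)} →
      g * k1 ∈ Ideal.span {r, h * (MvPolynomial.X j - MvPolynomial.C s)} →
      LocCoh.IsGorensteinLocalRing (Localization.AtPrime P) := by
    intro g j hg hg0 hg1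
    set k := h * (MvPolynomial.X j - MvPolynomial.C s) with hk
    have hkrel : k ∉ relFV q := by
      intro hmem
      rcases (relFV_isPrime hq).mem_or_mem hmem with h1 | h1
      · exact h_not_mem (π := π) hint hq hh h1
      · have e1 := eval_relFV (L := ℚ) (x := 1) one_ne_zero h1
        have e2 := eval_relFV (L := ℚ) (x := 2) two_ne_zero h1
        have hq' : (0 : ℚ) < q := by exact_mod_cast hq
        fin_cases j <;> simp at e1 e2 <;> linarith
    have hr0 : IsSMulRegular A (E.symm r) := by
      intro a b hab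
      have hr' : E.symm r ≠ 0 := by
        intro h0
        have h1 : r = 0 := by simpa using congrArg E h0
        have := congrArg (MvPolynomial.eval (0 : Fin 2 → ℤ)) h1
        simp [r, hq.ne'] at this
      exact mul_left_cancel₀ hr' hab
    have hspan : Ideal.span {E.symm r} = (relFV q).comap (E : A →+* _) := by
      ext x
      rw [Ideal.mem_comap, relFV, Ideal.mem_span_singleton, Ideal.mem_span_singleton]
      show E.symm r ∣ x ↔ r ∣ E x
      rw [← map_dvd_iff E, E.apply_symm_apply]
    have hk0' : IsSMulRegular (A ⧸ Ideal.span {E.symm r})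
        (Ideal.Quotient.mk (Ideal.span {E.symm r}) (E.symm k)) := by
      haveI := relFV_isPrime (q := q) hq
      haveI : (Ideal.span {E.symm r}).IsPrime := by rw [hspan]; exact Ideal.comap_isPrime _ _
      have hne : Ideal.Quotient.mk (Ideal.span {E.symm r}) (E.symm k) ≠ 0 := fun h0 => by
        rw [Ideal.Quotient.eq_zero_iff_mem, hspan, Ideal.mem_comap] at h0
        exact hkrel (by simpa using h0)
      intro a b hab
      exact mul_left_cancel₀ hne hab
    let Θ : A →+* φ.range := θ.comp E.toRingHom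
    set J := Ideal.span {E.symm r} ⊔ Ideal.span {E.symm k}
    haveI : LocCoh.IsGorensteinRing (A ⧸ J) := gor_quot_pair hr0 hk0'
    have hkφ : k ∈ RingHom.ker φ := by
      rw [hkerφ]
      exact Ideal.subset_span (by fin_cases j <;> simp [k, k0, k1])
    have hJ : ∀ a ∈ J, Θ a = 0 := by
      intro a ha
      obtain ⟨b, hb, c, hc, rfl⟩ := Submodule.mem_sup.1 ha
      obtain ⟨b, rfl⟩ := Ideal.mem_span_singleton'.1 hb
      obtain ⟨c, rfl⟩ := Ideal.mem_span_singleton'.1 hc
      have h1 : θ r = 0 := by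
        rw [← RingHom.mem_ker, hθk, hkerφ]; exact Ideal.subset_span (Set.mem_insert _ _)
      have h2 : θ k = 0 := by rw [← RingHom.mem_ker, hθk]; exact hkφ
      simp [Θ, h1, h2]
    let f : A ⧸ J →+* φ.range := Ideal.Quotient.lift J Θ hJ
    have hf : Function.Surjective f := fun x => by
      obtain ⟨g', rfl⟩ := hθ x
      exact ⟨Ideal.Quotient.mk J (E.symm g'), by simp [f, Θ]⟩
    have hkill : ∀ x, f x = 0 → Ideal.Quotient.mk J (E.symm g) * x = 0 := by
      intro x hx
      obtain ⟨a, rfl⟩ := Ideal.Quotient.mk_surjective x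
      rw [← map_mul, Ideal.Quotient.eq_zero_iff_mem]
      have ha : E a ∈ RingHom.ker θ := by simpa [f, Θ] using hx
      rw [hθk, hkerφ] at ha
      have hga : g * E a ∈ Ideal.span {r, k} := by
        have hsub : Ideal.span {g} * Ideal.span {r, k0, k1} ≤ Ideal.span {r, k} := by
          rw [Ideal.span_mul_span', Ideal.span_le]
          rintro _ ⟨_, rfl, y, hy, rfl⟩
          rcases hy with rfl | rfl | rfl
          · exact Ideal.mul_mem_left _ _ (Ideal.subset_span (Set.mem_insert _ _))
          · exact hg0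
          · exact hg1
        exact hsub (Ideal.mul_mem_mul (Ideal.mem_span_singleton_self g) ha)
      have : E.symm g * a ∈ (Ideal.span {r, k}).map (E.symm : _ →+* A) := by
        have := Ideal.mem_map_of_mem (E.symm : _ →+* A) hga
        simpa using this
      rw [Ideal.map_span, Set.image_pair] at this
      simp only [J, ← Ideal.span_union, Set.singleton_union]
      exact this
    have hnot : f (Ideal.Quotient.mk J (E.symm g)) ∉ P := by simpa [f, Θ] using hg
    exact (gorenstein_iff_of_surjective (R := A ⧸ J) f hf P hnot hkill).1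
      (LocCoh.IsGorensteinRing.isGorensteinLocalRing_localization _)
  by_cases h0 : θ (MvPolynomial.X 0 - MvPolynomial.C s) ∈ P
  swap
  · refine key _ 0 h0 (Ideal.mul_mem_left _ _ (Ideal.subset_span (by simp [k0])))
      (Ideal.mem_span_pair.2 ⟨0, MvPolynomial.X 1 - MvPolynomial.C s, by simp only [k1]; ring⟩)
  by_cases h1 : θ (MvPolynomial.X 1 - MvPolynomial.C s) ∈ P
  swap
  · refine key _ 1 h1
      (Ideal.mem_span_pair.2 ⟨0, MvPolynomial.X 0 - MvPolynomial.C s, by simp only [k0]; ring⟩)
      (Ideal.mul_mem_left _ _ (Ideal.subset_span (by simp [k1])))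
  refine key (MvPolynomial.C s) 0 (fun hsP => ?_)
    (Ideal.mul_mem_left _ _ (Ideal.subset_span (by simp [k0])))
    (Ideal.mem_span_pair.2 ⟨h, -MvPolynomial.X 1, ?_⟩)
  · have hX : ∀ j, θ (MvPolynomial.X j) ∈ P := by
      intro j
      fin_cases j
      · simpa [map_sub] using P.add_mem h0 hsP
      · simpa [map_sub] using P.add_mem h1 hsP
    have hp' : θ (MvPolynomial.C (p : ℤ)) ∈ P := by
      refine hP.mem_of_pow_mem e ?_
      rw [← map_pow, ← map_pow, show (p : ℤ) ^ e = s * s by rw [← sq, hs, hqdef]; push_cast; rfl,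
        map_mul, map_mul]
      exact P.mul_mem_left _ hsP
    have h00 : ∀ g : MvPolynomial (Fin 2) ℤ,
        θ (g - MvPolynomial.C (MvPolynomial.eval (0 : Fin 2 → ℤ) g)) ∈ P := by
      intro g
      induction g using MvPolynomial.induction_on with
      | C c => simp
      | add g g' hg hg' =>
        rw [map_add, map_add, add_sub_add_comm, map_add]
        exact P.add_mem hg hg'
      | mul_X g j hg =>
        simp only [map_mul, MvPolynomial.eval_X, Pi.zero_apply, mul_zero, map_zero, sub_zero]
        exact P.mul_mem_left _ (hX j)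
    have hc := h00 h
    rw [map_sub] at hc
    have hc' : θ (MvPolynomial.C (MvPolynomial.eval (0 : Fin 2 → ℤ) h)) ∈ P := by
      simpa using P.sub_mem hhP hc
    have hcop : IsCoprime (p : ℤ) (MvPolynomial.eval (0 : Fin 2 → ℤ) h) := by
      rw [(Nat.prime_iff_prime_int.1 hp).coprime_iff_not_dvd]
      intro hd
      apply hord
      rw [← ZMod.intCast_zmod_eq_zero_iff_dvd] at hd ⊢
      rw [cast_coeff_D he hh, hd]
    obtain ⟨a, b, hab⟩ := hcop
    apply hP.ne_top
    rw [Ideal.eq_top_iff_one]
    have : θ (MvPolynomial.C (a * (p : ℤ) + b * MvPolynomial.eval (0 : Fin 2 → ℤ) h)) ∈ P := by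
      rw [map_add, map_mul, map_mul, map_add, map_mul, map_mul]
      exact P.add_mem (P.mul_mem_left _ hp') (P.mul_mem_left _ hc')
    rwa [hab, map_one, map_one] at this
  · have : (MvPolynomial.C (q : ℤ) : MvPolynomial (Fin 2) ℤ) = MvPolynomial.C s * MvPolynomial.C s := by
      rw [← map_mul, ← sq, hs]
    simp only [r, k1, this]
    ring

end Groth.Agent.WeilNumLib
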