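import Groth.Agent.WeilNumLib.Sym
import Mathlib

/-! The kernel of `ℤ[F,V] → ∏ K i` for a finite family of Weil numbers. -/

set_option autoImplicit false
universe u
open Polynomial
open scoped ComplexConjugate

namespace Groth.Agent.WeilNumLib

/-- The functional equation of a polynomial with all roots on the circle of radius `√q`. -/
theorem reverse_identity (P : ℤ[X]) (hP : P.Monic) (q : ℕ) (hq : 0 < q)
    (hnorm : ∀ z ∈ P.aroots ℂ, ‖z‖ ^ 2 = q) :
    (P.comp (C (q : ℤ) * X)).reverse = C (P.coeff 0) * P := by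
  classical
  apply Polynomial.map_injective (algebraMap ℤ ℂ) Int.cast_injective
  set Q := P.map (algebraMap ℤ ℂ) with hQ
  set s := P.aroots ℂ with hs
  have hQm : Q.Monic := hP.map _
  have hQd : Q.natDegree = P.natDegree := hP.natDegree_map _
  have hcard : s.card = P.natDegree := IsAlgClosed.card_aroots_eq_natDegree
  have hprod : (s.map fun z => X - C z).prod = Q :=
    prod_multiset_X_sub_C_of_monic_of_roots_card_eq hQm (by rw [hQd]; exact hcard)
  have hsc : s.map (fun z => conj z) = s := by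
    have h := roots_map_of_injective_of_card_eq_natDegree (p := Q)
      (f := (conj : ℂ →+* ℂ)) (RingHom.injective _) (by rw [hQd]; exact hcard)
    rw [show Q.map (conj : ℂ →+* ℂ) = Q by
      rw [hQ, Polynomial.map_map]; congr 1; exact Subsingleton.elim _ _] at h
    exact h
  have hzc : ∀ z ∈ s, z * conj z = (q : ℂ) := by
    intro z hz
    rw [Complex.mul_conj, Complex.normSq_eq_norm_sq, hnorm z hz]
    norm_num
  have hq0 : (q : ℂ) ≠ 0 := by exact_mod_cast hq.ne'
  have h0 : Q.coeff 0 = (s.map fun z => -z).prod := by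
    rw [← hprod, coeff_zero_eq_eval_zero, eval_multiset_prod, Multiset.map_map]
    simp [Function.comp_def]
  have h := reverse_prod hq0 s
  rw [hprod, Multiset.map_congr rfl (g := fun z => C (-z) * (X - C (conj z))) (fun z hz => by
    rw [← hzc z hz, map_mul, map_neg]; ring), Multiset.prod_map_mul] at h
  have hsecond : (s.map fun z => X - C (conj z)).prod = Q := by
    conv_rhs => rw [← hprod, ← hsc, Multiset.map_map]
    rfl
  have hfirst : (s.map fun z => C (-z)).prod = C (Q.coeff 0) := by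
    rw [h0, map_multiset_prod, Multiset.map_map]; rfl
  rw [hfirst, hsecond] at h
  rw [Polynomial.map_mul, map_C, ← hQ, ← coeff_map]
  refine Eq.trans ?_ h
  have hdeg : ((P.comp (C (q : ℤ) * X)).map (algebraMap ℤ ℂ)).natDegree =
      (P.comp (C (q : ℤ) * X)).natDegree :=
    natDegree_map_eq_of_injective Int.cast_injective _
  ext n
  rw [coeff_map, coeff_reverse, coeff_reverse, hQ, comp_coeff, comp_coeff, coeff_map,
    natDegree_comp, natDegree_comp, natDegree_C_mul_X _ hq0,
    natDegree_C_mul_X _ (by exact_mod_cast hq.ne'), hP.natDegree_map]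
  simp

theorem coeff_zero_sq (P : ℤ[X]) (hP : P.Monic) (q : ℕ) (hq : 0 < q)
    (hnorm : ∀ z ∈ P.aroots ℂ, ‖z‖ ^ 2 = q) :
    P.coeff 0 * P.coeff 0 = (q : ℤ) ^ P.natDegree ∧
      ∀ j ≤ P.natDegree,
        P.coeff (P.natDegree - j) * (q : ℤ) ^ (P.natDegree - j) = P.coeff 0 * P.coeff j := by
  have h := reverse_identity P hP q hq hnorm
  have hdeg : (P.comp (C (q : ℤ) * X)).natDegree = P.natDegree := by
    rw [natDegree_comp, natDegree_C_mul_X _ (by exact_mod_cast hq.ne'), mul_one]
  have hj : ∀ j ≤ P.natDegree,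
      P.coeff (P.natDegree - j) * (q : ℤ) ^ (P.natDegree - j) = P.coeff 0 * P.coeff j := by
    intro j hj
    have := congrArg (fun f => f.coeff j) h
    simpa only [coeff_reverse, hdeg, revAt_le hj, comp_coeff, coeff_C_mul] using this
  refine ⟨?_, hj⟩
  have := hj 0 (Nat.zero_le _)
  simpa [hP.coeff_natDegree] using this.symm

/-- `q / x` is again a root. -/
theorem aeval_div_eq_zero (P : ℤ[X]) (hP : P.Monic) (q : ℕ) (hq : 0 < q)
    (hnorm : ∀ z ∈ P.aroots ℂ, ‖z‖ ^ 2 = q) {K : Type u} [Field K] {x : K} (hx : x ≠ 0)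
    (h0 : aeval x P = 0) : aeval ((q : K) / x) P = 0 := by
  letI : Invertible x⁻¹ := invertibleOfNonzero (inv_ne_zero hx)
  have h := (eval₂_reverse_eq_zero_iff (algebraMap ℤ K) x⁻¹ (P.comp (C (q : ℤ) * X))).1 ?_
  · rw [eval₂_comp, eval₂_mul, eval₂_C, eval₂_X] at h
    rw [aeval_def, div_eq_mul_inv]
    simpa using h
  · rw [invOf_eq_inv, inv_inv, reverse_identity P hP q hq hnorm, eval₂_mul, ← aeval_def x P, h0,
      mul_zero]

/-- `q^{N-k}` divides the `k`-th coefficient: the condition to be `T^N` times an element of the image. -/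
def Good (q N : ℕ) (f : ℤ[X]) : Prop := ∀ k ≤ N, (q : ℤ) ^ (N - k) ∣ f.coeff k

theorem good_of_mul {q N D : ℕ} (hq : 0 < q) {P w : ℤ[X]}
    (h0 : P.coeff 0 = (q : ℤ) ^ D ∨ P.coeff 0 = -(q : ℤ) ^ D)
    (hi : ∀ i ≤ D, (q : ℤ) ^ (D - i) ∣ P.coeff i) (hDN : D ≤ N) (h : Good q N (P * w)) :
    Good q (N - D) w := by
  intro k
  induction k using Nat.strong_induction_on with
  | h k ih =>
    intro hk
    have hsum := h k (by omega)
    rw [coeff_mul, Finset.Nat.sum_antidiagonal_eq_sum_range_succ (fun i j => P.coeff i * w.coeff j),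
      Finset.sum_range_succ'] at hsum
    have hrest : (q : ℤ) ^ (N - k) ∣
        ∑ i ∈ Finset.range k, P.coeff (i + 1) * w.coeff (k - (i + 1)) := by
      refine Finset.dvd_sum fun i hi' => ?_
      rw [Finset.mem_range] at hi'
      have h1 := ih (k - (i + 1)) (by omega) (by omega)
      by_cases hiD : i + 1 ≤ D
      · refine dvd_trans ?_ (mul_dvd_mul (hi (i + 1) hiD) h1)
        rw [← pow_add]
        exact pow_dvd_pow _ (by omega)
      · exact Dvd.dvd.mul_left (dvd_trans (pow_dvd_pow _ (by omega)) h1) _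
    rw [dvd_add_right hrest, Nat.sub_zero] at hsum
    have h2 : (q : ℤ) ^ D * (q : ℤ) ^ (N - D - k) ∣ (q : ℤ) ^ D * w.coeff k := by
      rw [← pow_add, show D + (N - D - k) = N - k by omega]
      rcases h0 with e | e <;> rw [e] at hsum
      · exact hsum
      · rwa [neg_mul, dvd_neg] at hsum
    exact (mul_dvd_mul_iff_left (pow_ne_zero _ (by exact_mod_cast hq.ne'))).1 h2

section Lift

variable (q : ℕ)

/-- The ideal of `FV - q`. -/
noncomputable def relFV : Ideal (MvPolynomial (Fin 2) ℤ) :=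
  Ideal.span {MvPolynomial.X 0 * MvPolynomial.X 1 - MvPolynomial.C (q : ℤ)}

/-- Normal form of `T^(-N) f`. -/
noncomputable def lift' (N : ℕ) (f : ℤ[X]) : MvPolynomial (Fin 2) ℤ :=
  f.sum fun k c => MvPolynomial.C (c / (q : ℤ) ^ (N - k)) *
    MvPolynomial.X 0 ^ (k - N) * MvPolynomial.X 1 ^ (N - k)

theorem lift'_monomial (N k : ℕ) (c : ℤ) :
    lift' q N (monomial k c) = MvPolynomial.C (c / (q : ℤ) ^ (N - k)) *
      MvPolynomial.X 0 ^ (k - N) * MvPolynomial.X 1 ^ (N - k) := by
  rw [lift', sum_monomial_index]; simp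

variable {q}

theorem lift'_add {N : ℕ} {f g : ℤ[X]} (hf : Good q N f) :
    lift' q N (f + g) = lift' q N f + lift' q N g := by
  simp only [lift']
  rw [sum_eq_of_subset (p := f + g) (s := (f + g).support ∪ f.support ∪ g.support) _ (by simp)
      (fun x hx => Finset.mem_union_left _ (Finset.mem_union_left _ hx)),
    sum_eq_of_subset (p := f) (s := (f + g).support ∪ f.support ∪ g.support) _ (by simp)
      (fun x hx => Finset.mem_union_left _ (Finset.mem_union_right _ hx)),
    sum_eq_of_subset (p := g) (s := (f + g).support ∪ f.support ∪ g.support) _ (by simp)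
      (fun x hx => Finset.mem_union_right _ hx), ← Finset.sum_add_distrib]
  refine Finset.sum_congr rfl fun k _ => ?_
  rw [← add_mul, ← add_mul, ← map_add, coeff_add]
  congr 3
  rcases le_or_gt k N with h | h
  · exact Int.add_ediv_of_dvd_left (hf k h)
  · simp [Nat.sub_eq_zero_of_le h.le]

theorem lift'_mul_X_pow (N n : ℕ) (f : ℤ[X]) : lift' q (N + n) (f * X ^ n) = lift' q N f := by
  simp only [lift', Polynomial.sum]
  refine (Finset.sum_bij (fun k _ => k + n) ?_ ?_ ?_ ?_).symm
  · intro k hk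
    rw [mem_support_iff] at hk ⊢
    rwa [coeff_mul_X_pow]
  · intro a _ b _ h; omega
  · intro k hk
    rw [mem_support_iff, coeff_mul_X_pow'] at hk
    split_ifs at hk with h
    · exact ⟨k - n, mem_support_iff.2 hk, by omega⟩
    · exact absurd rfl hk
  · intro k _
    rw [coeff_mul_X_pow, Nat.add_sub_add_right, Nat.add_sub_add_right]

theorem good_mul_X_pow {N : ℕ} {f : ℤ[X]} (n : ℕ) (hf : Good q N f) :
    Good q (N + n) (f * X ^ n) := by
  intro k hk
  rw [coeff_mul_X_pow']
  split_ifs with h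
  · rw [show N + n - k = N - (k - n) by omega]
    exact hf _ (by omega)
  · exact dvd_zero _

/-- An element of `ℤ[F,V]` in normal form. -/
def Rep (q : ℕ) (g : MvPolynomial (Fin 2) ℤ) (N : ℕ) (f : ℤ[X]) : Prop :=
  Good q N f ∧ g - lift' q N f ∈ relFV q ∧
    ∀ (L : Type u) [Field L] (x : L), x ≠ 0 →
      MvPolynomial.aeval ![x, (q : L) / x] g * x ^ N = aeval x f

theorem rep_mono {g : MvPolynomial (Fin 2) ℤ} {N M : ℕ} {f : ℤ[X]} (h : Rep.{u} q g N f) (hNM : N ≤ M) :
    Rep.{u} q g M (f * X ^ (M - N)) := by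
  obtain ⟨n, rfl⟩ := Nat.exists_eq_add_of_le hNM
  rw [Nat.add_sub_cancel_left]
  refine ⟨good_mul_X_pow n h.1, by rw [lift'_mul_X_pow]; exact h.2.1, fun L _ x hx => ?_⟩
  rw [pow_add, ← mul_assoc, h.2.2 L x hx, map_mul, map_pow, aeval_X]

theorem exists_rep (hq : 0 < q) (g : MvPolynomial (Fin 2) ℤ) :
    ∃ N f, Rep.{u} q g N f := by
  induction g using MvPolynomial.induction_on' with
  | add g g' hg hg' =>
    obtain ⟨N, f, hf⟩ := hg
    obtain ⟨N', f', hf'⟩ := hg'
    have h1 := rep_mono hf (le_max_left N N')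
    have h2 := rep_mono hf' (le_max_right N N')
    refine ⟨max N N', f * X ^ (max N N' - N) + f' * X ^ (max N N' - N'),
      fun k hk => by rw [coeff_add]; exact dvd_add (h1.1 k hk) (h2.1 k hk), ?_, fun L _ x hx => ?_⟩
    · rw [lift'_add h1.1, add_sub_add_comm]
      exact add_mem h1.2.1 h2.2.1
    · rw [map_add, add_mul, h1.2.2 L x hx, h2.2.2 L x hx, map_add]
  | monomial m c =>
    have hm : MvPolynomial.monomial m c =
        MvPolynomial.C c * MvPolynomial.X 0 ^ m 0 * MvPolynomial.X 1 ^ m 1 := by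
      rw [MvPolynomial.monomial_eq, Finsupp.prod_fintype _ _ (fun _ => pow_zero _),
        Fin.prod_univ_two, mul_assoc]
    refine ⟨m 1, monomial (m 0) (c * (q : ℤ) ^ m 1), fun k hk => ?_, ?_, fun L _ x hx => ?_⟩
    · rw [coeff_monomial]
      split_ifs with h
      · exact Dvd.dvd.mul_left (pow_dvd_pow _ (by omega)) _
      · exact dvd_zero _
    · rw [lift'_monomial, hm, relFV, ← Ideal.Quotient.eq]
      have hq' : ((q : ℤ) ^ (m 1 - m 0)) ≠ 0 := pow_ne_zero _ (by exact_mod_cast hq.ne')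
      have key : Ideal.Quotient.mk (Ideal.span
          {MvPolynomial.X 0 * MvPolynomial.X 1 - MvPolynomial.C (q : ℤ)})
          (MvPolynomial.X (0 : Fin 2) * MvPolynomial.X 1) =
          Ideal.Quotient.mk _ (MvPolynomial.C (q : ℤ)) :=
        Ideal.Quotient.eq.2 (Ideal.mem_span_singleton_self _)
      rcases le_or_gt (m 0) (m 1) with h | h
      · obtain ⟨n, hn⟩ := Nat.exists_eq_add_of_le h
        rw [show m 1 - m 0 = n by omega] at hq'
        rw [show m 1 - m 0 = n by omega, show m 0 - m 1 = 0 by omega, hn]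
        rw [show c * (q : ℤ) ^ (m 0 + n) = c * (q : ℤ) ^ m 0 * (q : ℤ) ^ n by ring,
          Int.mul_ediv_cancel _ hq']
        simp only [pow_add, map_mul, map_pow, pow_zero, mul_one, mul_assoc]
        rw [← mul_assoc (Ideal.Quotient.mk _ (MvPolynomial.X (0 : Fin 2)) ^ m 0), ← mul_pow,
          ← map_mul, key]
      · obtain ⟨n, hn⟩ := Nat.exists_eq_add_of_le h.le
        rw [hn, Nat.add_sub_cancel_left, Nat.sub_eq_zero_of_le (Nat.le_add_right _ _), pow_zero,
          Int.ediv_one]
        simp only [pow_add, map_mul, map_pow, pow_zero, mul_one]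
        rw [← key, map_mul, mul_pow]
        ring
    · rw [hm, map_mul, map_mul, map_pow, map_pow, MvPolynomial.aeval_X, MvPolynomial.aeval_X,
        MvPolynomial.aeval_C, aeval_monomial]
      simp only [Matrix.cons_val_zero, Matrix.cons_val_one, map_mul, map_pow]
      rw [mul_assoc _ _ (x ^ m 1), ← mul_pow, div_mul_cancel₀ _ hx]
      simp
      ring

/-- Elements with the same normal value at a transcendental point are congruent modulo `FV - q`. -/
theorem sub_mem_relFV {g g' : MvPolynomial (Fin 2) ℤ} {N N' : ℕ} {f f' : ℤ[X]}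
    (h : Rep.{u} q g N f) (h' : Rep.{u} q g' N' f') (heq : f * X ^ N' = f' * X ^ N) :
    g - g' ∈ relFV q := by
  have h1 := rep_mono h (Nat.le_add_right N N')
  have h2 := rep_mono h' (Nat.le_add_left N' N)
  rw [Nat.add_sub_cancel_left, heq] at h1
  rw [Nat.add_sub_cancel] at h2
  have := sub_mem h1.2.1 h2.2.1
  rwa [sub_sub_sub_cancel_right] at this

end Lift

/-- The evaluation `F ↦ π`, `V ↦ q/π`. -/
noncomputable def evalFV {ι : Type} {K : ι → Type u} [∀ i, Field (K i)] (π : ∀ i, K i) (q : ℕ) :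
    MvPolynomial (Fin 2) ℤ →ₐ[ℤ] ((i : ι) → K i) :=
  MvPolynomial.aeval ![fun i => π i, fun i => (q : K i) / π i]

theorem evalFV_apply {ι : Type} {K : ι → Type u} [∀ i, Field (K i)] (π : ∀ i, K i) (q : ℕ)
    (g : MvPolynomial (Fin 2) ℤ) (i : ι) :
    evalFV π q g i = MvPolynomial.aeval ![π i, (q : K i) / π i] g := by
  have : (Pi.evalAlgHom ℤ K i).comp (evalFV π q) = MvPolynomial.aeval ![π i, (q : K i) / π i] := by
    refine MvPolynomial.algHom_ext fun j => ?_
    fin_cases j <;> simp [evalFV]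
  exact AlgHom.congr_fun this g

section Family

variable {q D : ℕ} {ι : Type} [Fintype ι] {K : ι → Type u} [∀ i, Field (K i)]
  [∀ i, CharZero (K i)] (π : ∀ i, K i)

/-- The product of the minimal polynomials. -/
noncomputable def prodMin : ℤ[X] := ∏ i, minpoly ℤ (π i)

variable {π} (hint : ∀ i, IsIntegral ℤ (π i))
  (hweil : ∀ i, ∀ z ∈ (minpoly ℤ (π i)).aroots ℂ, ‖z‖ ^ 2 = q)
  (hinj : ∀ i j, minpoly ℤ (π i) = minpoly ℤ (π j) → i = j)
  (hD : ∑ i, (minpoly ℤ (π i)).natDegree = 2 * D)

include hint in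
theorem monic_prodMin : (prodMin π).Monic :=
  monic_prod_of_monic _ _ fun i _ => minpoly.monic (hint i)

include hint hD in
theorem natDegree_prodMin : (prodMin π).natDegree = 2 * D := by
  rw [prodMin, natDegree_prod_of_monic _ _ fun i _ => minpoly.monic (hint i), hD]

include hint hweil in
theorem pi_ne_zero (hq : 0 < q) (i : ι) : π i ≠ 0 := by
  intro h
  have h1 := (coeff_zero_sq _ (minpoly.monic (hint i)) q hq (hweil i)).1
  have h2 : (minpoly ℤ (π i)).coeff 0 = 0 := by
    have := minpoly.aeval ℤ (π i)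
    generalize minpoly ℤ (π i) = P at this ⊢
    rw [h, aeval_def, eval₂_at_zero] at this
    exact Int.cast_injective (α := K i) (by simpa using this)
  rw [h2, mul_zero] at h1
  exact pow_ne_zero _ (by exact_mod_cast hq.ne' : (q : ℤ) ≠ 0) h1.symm

include hint hweil in
theorem prodMin_norm : ∀ z ∈ (prodMin π).aroots ℂ, ‖z‖ ^ 2 = q := by
  intro z hz
  obtain ⟨-, h⟩ := mem_aroots.1 hz
  rw [prodMin, map_prod, Finset.prod_eq_zero_iff] at h
  obtain ⟨i, -, hi⟩ := h
  exact hweil i z (mem_aroots.2 ⟨(minpoly.monic (hint i)).ne_zero, hi⟩)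

include hint hweil hD in
theorem prodMin_coeff (hq : 0 < q) :
    ((prodMin π).coeff 0 = (q : ℤ) ^ D ∨ (prodMin π).coeff 0 = -(q : ℤ) ^ D) ∧
      ∀ i ≤ D, (q : ℤ) ^ (D - i) ∣ (prodMin π).coeff i := by
  obtain ⟨hsq, hj⟩ := coeff_zero_sq _ (monic_prodMin hint) q hq (prodMin_norm hint hweil)
  rw [natDegree_prodMin hint hD] at hsq hj
  have h0 : (prodMin π).coeff 0 = (q : ℤ) ^ D ∨ (prodMin π).coeff 0 = -(q : ℤ) ^ D :=
    sq_eq_sq_iff_eq_or_eq_neg.1 (by rw [sq, hsq, ← pow_mul, mul_comm D 2])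
  refine ⟨h0, fun i hi => ?_⟩
  have h := hj (2 * D - i) (by omega)
  rw [show 2 * D - (2 * D - i) = i by omega] at h
  have hdvd : (q : ℤ) ^ i * (q : ℤ) ^ (D - i) ∣ (q : ℤ) ^ i * (prodMin π).coeff i := by
    rw [mul_comm _ ((prodMin π).coeff i), h, ← pow_add, show i + (D - i) = D by omega]
    rcases h0 with e | e <;> rw [e]
    · exact dvd_mul_right _ _
    · exact Dvd.dvd.mul_right ((dvd_refl _).neg_right) _
  exact (mul_dvd_mul_iff_left (pow_ne_zero _ (by exact_mod_cast hq.ne'))).1 hdvd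

include hint hinj in
theorem prodMin_dvd {f : ℤ[X]} (h : ∀ i, aeval (π i) f = 0) : prodMin π ∣ f := by
  have hm := monic_prodMin (π := π) hint
  rw [← map_dvd_map (Int.castRingHom ℚ) Int.cast_injective hm, prodMin, Polynomial.map_prod]
  have hirr : ∀ i, Irreducible ((minpoly ℤ (π i)).map (Int.castRingHom ℚ)) := fun i => by
    have h1 := minpoly.irreducible (hint i).tower_top (A := ℚ)
    rwa [minpoly.isIntegrallyClosed_eq_field_fractions' ℚ (hint i)] at h1
  refine Finset.prod_dvd_of_coprime (fun i _ j _ hij => ?_) fun i _ => ?_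
  · refine (hirr i).coprime_iff_not_dvd.2 fun hdvd => hij (hinj i j ?_)
    exact Polynomial.map_injective (Int.castRingHom ℚ) Int.cast_injective
      (eq_of_monic_of_associated ((minpoly.monic (hint i)).map _) ((minpoly.monic (hint j)).map _)
        ((hirr i).associated_of_dvd (hirr j) hdvd))
  · exact Polynomial.map_dvd (Int.castRingHom ℚ) (minpoly.isIntegrallyClosed_dvd (hint i) (h i))

end Family

end Groth.Agent.WeilNumLib
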